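import Cfsg.Agent.Lib.Solv.CaminaFPF.Main
import Cfsg.Agent.Lib.Solv.CaminaPair
import Cfsg.Agent.Lib.Solv.FrattiniModule
import Cfsg.Agent.S0205
import Mathlib.FieldTheory.IsAlgClosed.AlgebraicClosure

/-!
# The normal subgroup of a Camina pair is solvable
-/

set_option autoImplicit false
set_option linter.style.haveILetI false

open scoped commutatorElement

namespace Cfsg.Agent.Solv.CaminaFPF

universe u

variable {G : Type u} [Group G] [Finite G] {N : Subgroup G} [N.Normal]

/-- An element of prime order outside `N` whose prime does not divide the order of a subgroup of `N`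
forces that subgroup to be nilpotent. -/
theorem nilpotent_of_prime_outside (hc : Camina.Pair N) {M : Subgroup G} [M.Normal] (hMN : M ≤ N) {y : G} {r : ℕ}
    (hr : r.Prime) (hyN : y ∉ N) (hyr : y ^ r = 1) (hrM : ¬ r ∣ Nat.card M) : Group.IsNilpotent M := by
  refine Solv.fpf_nilpotent M y hr hyr (by rw [Subgroup.normalizer_eq_top]; exact Subgroup.mem_top _) ?_
  rw [Subgroup.eq_bot_iff_forall]
  rintro n ⟨hn, hnc⟩
  have h1 := Camina.pow_eq_one hc hyN (hMN hn) (Subgroup.mem_centralizer_singleton_iff.1 hnc).symm hyr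
  have h2 : orderOf n ∣ Nat.card M := Subgroup.orderOf_coe (⟨n, hn⟩ : M) ▸ orderOf_dvd_natCard _
  exact orderOf_eq_one_iff.1 (Nat.eq_one_of_dvd_coprimes ((Nat.Prime.coprime_iff_not_dvd hr).2 hrM)
    (orderOf_dvd_of_pow_eq_one h1) h2)

/-- The Frobenius case. -/
theorem nilpotent_of_centralizer_le (hc : Camina.Pair N) (hN2 : N ≠ ⊤)
    (h : ∀ x ∈ N, x ≠ 1 → Subgroup.centralizer ({x} : Set G) ≤ N) : Group.IsNilpotent N := by
  obtain ⟨r, hr, hrI⟩ := Nat.exists_prime_and_dvd (show N.index ≠ 1 from fun h1 => hN2 (Subgroup.index_eq_one.1 h1))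
  haveI := Fact.mk hr
  have hrN : ¬ r ∣ Nat.card N := by
    intro hrN
    obtain ⟨S⟩ := (inferInstance : Nonempty (Sylow r G))
    haveI := Fintype.ofFinite (S : Subgroup G)
    have hne : N.subgroupOf (S : Subgroup G) ≠ ⊥ := by
      intro hbot
      rw [Subgroup.subgroupOf_eq_bot] at hbot
      haveI := Fintype.ofFinite N
      obtain ⟨R⟩ := (inferInstance : Nonempty (Sylow r N))
      refine R.ne_bot_of_dvd_card hrN ((Subgroup.map_eq_bot_iff_of_injective _ N.subtype_injective).1 (le_bot_iff.1 ?_))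
      obtain ⟨g, hg⟩ : ∃ g : G, ∀ x ∈ (R : Subgroup N).map N.subtype, g * x * g⁻¹ ∈ (S : Subgroup G) := by
        obtain ⟨S', hS'⟩ := (R.isPGroup'.map N.subtype).exists_le_sylow
        obtain ⟨g, hg⟩ := MulAction.exists_smul_eq G S' S
        refine ⟨g, fun x hx => ?_⟩
        rw [← hg, Sylow.coe_subgroup_smul]
        exact Subgroup.smul_mem_pointwise_smul x (MulAut.conj g) _ (hS' hx)
      intro x hx
      have h1 : g * x * g⁻¹ ∈ N ⊓ (S : Subgroup G) :=
        ⟨Subgroup.Normal.conj_mem inferInstance x (Subgroup.map_subtype_le _ hx) g, hg x hx⟩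
      rw [disjoint_iff.1 hbot, Subgroup.mem_bot] at h1
      rw [Subgroup.mem_bot]
      simpa using h1
    obtain ⟨⟨⟨z, hzS⟩, hzN, hzC⟩, hz1⟩ := Subgroup.ne_bot_iff_exists_ne_one.1
      (Cfsg.Agent.Char.GalDeg.inf_center_ne_bot S.isPGroup' (N.subgroupOf (S : Subgroup G)) hne)
    have hSN : (S : Subgroup G) ≤ N := fun s hs => h z hzN (fun h1 => hz1 (by subst h1; rfl))
      (Subgroup.mem_centralizer_singleton_iff.2 (congrArg Subtype.val (Subgroup.mem_center_iff.1 hzC ⟨s, hs⟩)))
    exact S.not_dvd_index (hrI.trans (Subgroup.index_dvd_of_le hSN))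
  obtain ⟨y, hy⟩ := exists_prime_orderOf_dvd_card' (G := G) r (hrI.trans N.index_dvd_card)
  refine nilpotent_of_prime_outside hc le_rfl hr (fun hyN => hrN ?_) (hy ▸ pow_orderOf_eq_one y) hrN
  rw [← hy]
  exact Subgroup.orderOf_coe (⟨y, hyN⟩ : N) ▸ orderOf_dvd_natCard _

/-- A normal `p'`-subgroup `M` of `N` with `G/M` a `p`-group is nilpotent, for odd `p`. -/
theorem nilpotent_of_pgroup_quotient (hc : Camina.Pair N) (hN2 : N ≠ ⊤) {p : ℕ} [hp : Fact p.Prime] (hp2 : p ≠ 2)
    {M : Subgroup G} [M.Normal] (hMN : M ≤ N) (hGM : IsPGroup p (G ⧸ M)) (hco : (Nat.card M).Coprime p) :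
    Group.IsNilpotent M := by
  classical
  rcases eq_or_ne M ⊥ with rfl | hMne
  · infer_instance
  set r := (Nat.card M).minFac with hrdef
  have hMcard : Nat.card M ≠ 1 := fun h => hMne (Subgroup.card_eq_one.1 h)
  have hr : r.Prime := Nat.minFac_prime hMcard
  haveI := Fact.mk hr
  have hrM : r ∣ Nat.card M := Nat.minFac_dvd _
  have hrp : r ≠ p := fun h => (Nat.Prime.coprime_iff_not_dvd hp.out).1 hco.symm (h ▸ hrM)
  obtain ⟨R⟩ := (inferInstance : Nonempty (Sylow r M))
  set R' : Subgroup G := (R : Subgroup M).map M.subtype with hR'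
  set X : Subgroup G := Subgroup.normalizer (R' : Set G) with hX
  have hXM : X ⊔ M = ⊤ := Sylow.normalizer_sup_eq_top R
  -- a Sylow `p`-subgroup of `X` supplements `M`
  obtain ⟨P⟩ := (inferInstance : Nonempty (Sylow p X))
  haveI := Fintype.ofFinite (P : Subgroup X)
  set f : ↥(P : Subgroup X) →* G := X.subtype.comp (P : Subgroup X).subtype with hf
  have hφ : Function.Surjective ((QuotientGroup.mk' M).comp X.subtype) := by
    intro a
    obtain ⟨g, rfl⟩ := QuotientGroup.mk'_surjective M a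
    obtain ⟨x, hx, m, hm, rfl⟩ := Subgroup.mem_sup_of_normal_right.1 (hXM ▸ Subgroup.mem_top g : g ∈ X ⊔ M)
    refine ⟨⟨x, hx⟩, ?_⟩
    rw [map_mul, (QuotientGroup.eq_one_iff m).2 hm |> fun h => (show QuotientGroup.mk' M m = 1 from h), mul_one]
    rfl
  have hPtop : ((P.mapSurjective hφ : Sylow p (G ⧸ M)) : Subgroup (G ⧸ M)) = ⊤ :=
    ((P.mapSurjective hφ).is_maximal' (hGM.to_subgroup ⊤) le_top).symm
  rw [Sylow.coe_mapSurjective] at hPtop
  have hfac : ∀ g : G, ∃ q : ↥(P : Subgroup X), ∃ m ∈ M, g = f q * m := by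
    intro g
    obtain ⟨q, hq, hqg⟩ := (hPtop ▸ Subgroup.mem_top _ :
      (QuotientGroup.mk' M g) ∈ (P : Subgroup X).map ((QuotientGroup.mk' M).comp X.subtype))
    refine ⟨⟨q, hq⟩, (q : G)⁻¹ * g, QuotientGroup.eq.1 hqg, ?_⟩
    exact (mul_inv_cancel_left _ _).symm
  have hfinj : Function.Injective f := X.subtype_injective.comp (P : Subgroup X).subtype_injective
  have hPM : ∀ q, f q ∈ M → q = 1 := by
    intro q hq
    obtain ⟨k, hk⟩ := P.isPGroup' q
    have h1 : orderOf q ∣ p ^ k := orderOf_dvd_of_pow_eq_one hk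
    have h2 : orderOf q ∣ Nat.card M := by
      rw [← orderOf_injective f hfinj q]
      exact Subgroup.orderOf_coe (⟨f q, hq⟩ : M) ▸ orderOf_dvd_natCard _
    exact orderOf_eq_one_iff.1 (Nat.eq_one_of_dvd_coprimes (hco.pow_right k) h2 h1)
  set T : Subgroup ↥(P : Subgroup X) := N.comap f with hT
  have hpair : Camina.Pair T := by
    intro g hg n hn
    obtain ⟨x, hx⟩ := hc (f g) hg (f n) hn
    obtain ⟨q, m, hm, rfl⟩ := hfac x
    refine ⟨q, ?_⟩
    have h1 : f (q * g * q⁻¹)⁻¹ * f (g * n) ∈ M := by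
      rw [map_inv, map_mul, map_mul, map_inv, map_mul, ← hx,
        show (f q * f g * (f q)⁻¹)⁻¹ * (f q * m * f g * (f q * m)⁻¹)
          = f q * ((f g)⁻¹ * m * f g) * m⁻¹ * (f q)⁻¹ by group, mul_assoc (f q)]
      refine Subgroup.Normal.conj_mem inferInstance _ (M.mul_mem ?_ (M.inv_mem hm)) _
      simpa using (inferInstance : M.Normal).conj_mem m hm (f g)⁻¹
    rw [← map_mul] at h1
    exact inv_mul_eq_one.1 (hPM _ h1)
  have hTtop : T ≠ ⊤ := by
    intro h
    refine hN2 ((Subgroup.eq_top_iff' N).2 fun g => ?_)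
    obtain ⟨q, m, hm, rfl⟩ := hfac g
    exact N.mul_mem (h ▸ Subgroup.mem_top q : q ∈ T) (hMN hm)
  by_cases hout : ∃ y : ↥(P : Subgroup X), y ∉ T ∧ y ^ p = 1
  · obtain ⟨y, hyT, hyp⟩ := hout
    exact nilpotent_of_prime_outside hc hMN hp.out (y := f y) hyT (by rw [← map_pow, hyp, map_one])
      ((Nat.Prime.coprime_iff_not_dvd hp.out).1 hco.symm)
  exfalso
  push Not at hout
  have hnc : ∀ g : ↥(P : Subgroup X), Subgroup.zpowers g ⊔ T ≠ ⊤ := by
    intro g hg
    have hgT : g ∉ T := fun h => hTtop (top_le_iff.1 (hg ▸ sup_le (Subgroup.zpowers_le.2 h) le_rfl))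
    have hTΦ : T ≤ frattini ↥(P : Subgroup X) := by
      intro n hn
      obtain ⟨x, hx⟩ := hpair g hgT n hn
      have : n = ⁅g⁻¹, x⁆ := by
        rw [commutatorElement_def, inv_inv, mul_assoc (g⁻¹ * x), mul_assoc g⁻¹, ← mul_assoc x, hx,
          inv_mul_cancel_left]
      rw [this]
      exact Solv.commutatorElement_mem_frattini P.isPGroup' _ _
    have htop : Subgroup.zpowers g = ⊤ := frattini_nongenerating (top_le_iff.1 (hg ▸ sup_le_sup_left hTΦ _))
    have hTbot : ∀ n ∈ T, n = 1 := by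
      intro n hn
      obtain ⟨x, hx⟩ := hpair g hgT n hn
      obtain ⟨i, rfl⟩ := (htop ▸ Subgroup.mem_top x : x ∈ Subgroup.zpowers g)
      simp only at hx
      rw [(Commute.self_zpow g i).symm.eq, mul_inv_cancel_right] at hx
      exact left_eq_mul.1 hx
    haveI : Nontrivial ↥(P : Subgroup X) := ⟨⟨g, 1, fun h => hgT (h ▸ T.one_mem)⟩⟩
    obtain ⟨n, hn⟩ := IsPGroup.iff_card.1 P.isPGroup'
    have hn0 : n ≠ 0 := fun h0 => (Finite.one_lt_card (α := ↥(P : Subgroup X))).ne' (by rw [hn, h0, pow_zero])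
    obtain ⟨y, hy⟩ := exists_prime_orderOf_dvd_card' (G := ↥(P : Subgroup X)) p (by rw [hn]; exact dvd_pow_self p hn0)
    exact hout y (fun hyT => hp.out.ne_one (by rw [← hy, hTbot y hyT, orderOf_one])) (orderOf_dvd_iff_pow_eq_one.1 hy.dvd)
  -- the module
  let V : Subgroup X :=
    { carrier := {v | (v : G) ∈ R' ∧ (v : G) ^ r = 1 ∧ ∀ y ∈ R', Commute (v : G) y}
      one_mem' := ⟨R'.one_mem, one_pow r, fun y _ => Commute.one_left y⟩
      mul_mem' := fun {v w} hv hw => ⟨R'.mul_mem hv.1 hw.1, by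
        rw [Subgroup.coe_mul, (hv.2.2 _ hw.1).mul_pow, hv.2.1, hw.2.1, one_mul],
        fun y hy => (hv.2.2 y hy).mul_left (hw.2.2 y hy)⟩
      inv_mem' := fun {v} hv => ⟨R'.inv_mem hv.1, by rw [InvMemClass.coe_inv, inv_pow, hv.2.1, inv_one],
        fun y hy => (hv.2.2 y hy).inv_left⟩ }
  haveI : V.Normal := by
    refine ⟨fun v hv g => ?_⟩
    have hmem : ∀ y, y ∈ R' ↔ (g : G) * y * (g : G)⁻¹ ∈ R' := Subgroup.mem_normalizer_iff.1 g.2
    refine ⟨(hmem _).1 hv.1, ?_, fun y hy => ?_⟩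
    · simp only [Subgroup.coe_mul, InvMemClass.coe_inv, conj_pow, hv.2.1, mul_one, mul_inv_cancel]
    · have hy' : (g : G)⁻¹ * y * g ∈ R' := (hmem _).2 (by simpa [mul_assoc] using hy)
      have h1 := (hv.2.2 _ hy').map (MulAut.conj (g : G)).toMonoidHom
      simpa [mul_assoc] using h1
  have hVab : Cfsg.IsElementaryAbelian r V :=
    ⟨⟨⟨fun a b => Subtype.ext (Subtype.ext (a.2.2.2 _ b.2.1).eq)⟩⟩, fun a ha => Subtype.ext (by
      rw [SubmonoidClass.coe_pow]; exact ha.2.1)⟩
  obtain ⟨k, e, ρ, he, hmemV, hadd, hconj⟩ := Solv.ThmB.exists_module (p := r) V hVab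
  have he0 : e 0 = 1 := by
    have h := hadd 0 0
    rwa [add_zero, left_eq_mul] at h
  obtain ⟨a₀, ha₀⟩ : ∃ a, a ≠ (0 : Fin k → ZMod r) := by
    have hRne : (R : Subgroup M) ≠ ⊥ := R.ne_bot_of_dvd_card hrM
    haveI : Nontrivial (R : Subgroup M) := (Subgroup.nontrivial_iff_ne_bot _).2 hRne
    haveI := R.isPGroup'.center_nontrivial
    obtain ⟨n, hn0, hn⟩ := IsPGroup.iff_card.1 (R.isPGroup'.to_subgroup (Subgroup.center _)) |>.elim
      fun n hn => (⟨n, fun h0 => (Finite.one_lt_card (α := Subgroup.center (R : Subgroup M))).ne'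
        (by rw [hn, h0, pow_zero]), hn⟩ : ∃ n, n ≠ 0 ∧ Nat.card (Subgroup.center (R : Subgroup M)) = r ^ n)
    obtain ⟨z, hz⟩ := exists_prime_orderOf_dvd_card' (G := Subgroup.center (R : Subgroup M)) r (hn ▸ dvd_pow_self r hn0)
    have hzR : ((z.1.1 : M) : G) ∈ R' := ⟨z.1.1, z.1.2, rfl⟩
    have hzX : ((z.1.1 : M) : G) ∈ X := Subgroup.le_normalizer hzR
    have hzo : orderOf ((z.1.1 : M) : G) = r := by
      rw [Subgroup.orderOf_coe, Subgroup.orderOf_coe, Subgroup.orderOf_coe, hz]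
    have hzV : (⟨_, hzX⟩ : X) ∈ V := ⟨hzR, orderOf_dvd_iff_pow_eq_one.1 hzo.dvd, by
      rintro _ ⟨y, hy, rfl⟩
      have := congrArg (fun t : (R : Subgroup M) => ((t : M) : G)) (Subgroup.mem_center_iff.1 z.2 ⟨y, hy⟩)
      exact this.symm⟩
    obtain ⟨a, ha⟩ := (hmemV _).1 hzV
    refine ⟨a, fun h0 => hr.ne_one ?_⟩
    rw [h0, he0] at ha
    rw [← hzo, show ((z.1.1 : M) : G) = 1 from (congrArg Subtype.val ha).symm, orderOf_one]
  haveI : Nonempty (Fin k) := by
    by_contra h
    rw [not_nonempty_iff] at h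
    exact ha₀ (Subsingleton.elim _ _)
  -- pass to an algebraically closed field
  let K := AlgebraicClosure (ZMod r)
  haveI : Nontrivial (Matrix (Fin k) (Fin k) K) := inferInstance
  let σ : ↥(P : Subgroup X) →* Matrix (Fin k) (Fin k) K :=
    ((RingHom.mapMatrix (algebraMap (ZMod r) K)).toMonoidHom.comp
      ((LinearMap.toMatrixAlgEquiv' (R := ZMod r) (n := Fin k)).toAlgHom : Module.End (ZMod r) (Fin k → ZMod r) →* _)).comp
        (ρ.comp (P : Subgroup X).subtype)
  refine core (K := K) (p := p) ?_ hp2 P.isPGroup' T hpair hnc σ ?_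
  · obtain ⟨i, hi⟩ := IsPGroup.iff_card.1 P.isPGroup'
    rw [hi, Ne, CharP.cast_eq_zero_iff K r]
    exact fun h => hrp ((Nat.prime_dvd_prime_iff_eq hr hp.out).1 (hr.dvd_of_dvd_pow h))
  · intro x hx A hA
    set L := LinearMap.toMatrixAlgEquiv' (ρ (x : X)) with hL
    have hσ : σ x = L.map (algebraMap (ZMod r) K) := rfl
    have hdet : (L - 1).det ≠ 0 := by
      rw [Ne, ← Matrix.exists_mulVec_eq_zero_iff]
      rintro ⟨v, hv0, hv⟩
      rw [Matrix.sub_mulVec, Matrix.one_mulVec, sub_eq_zero, hL] at hv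
      have hv2 : (LinearMap.toMatrixAlgEquiv' (ρ (x : X))).mulVec v = ρ (x : X) v :=
        LinearMap.toMatrix'_mulVec _ v
      have hv' : ρ (x : X) v = v := hv2.symm.trans hv
      have h1 := hconj (x : X) v
      rw [hv'] at h1
      have hcm : Commute (f x) ((e v : X) : G) := by
        have h2 := congrArg Subtype.val h1
        simp only [Subgroup.coe_mul, InvMemClass.coe_inv] at h2
        exact (eq_mul_inv_iff_mul_eq.1 h2).symm
      obtain ⟨hevR, hevr, -⟩ : (e v) ∈ V := (hmemV _).2 ⟨v, rfl⟩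
      obtain ⟨i, hi⟩ := P.isPGroup' x
      have h3 := Camina.pow_eq_one hc (show f x ∉ N from hx) (hMN (Subgroup.map_subtype_le _ hevR)) hcm
        (k := p ^ i) (by rw [← map_pow, hi, map_one])
      have h4 : ((e v : X) : G) = 1 := orderOf_eq_one_iff.1 (Nat.eq_one_of_dvd_coprimes
        (Nat.Coprime.pow_right i ((Nat.coprime_primes hr hp.out).2 hrp)) (orderOf_dvd_of_pow_eq_one hevr)
        (orderOf_dvd_of_pow_eq_one h3))
      exact hv0 (he ((Subtype.ext h4).trans he0.symm))
    have hunit : IsUnit (σ x - 1) := by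
      rw [Matrix.isUnit_iff_isUnit_det, isUnit_iff_ne_zero, hσ,
        show L.map (algebraMap (ZMod r) K) - 1 = (L - 1).map (algebraMap (ZMod r) K) by
          rw [Matrix.map_sub _ (map_sub _), Matrix.map_one _ (map_zero _) (map_one _)],
        ← RingHom.mapMatrix_apply, ← RingHom.map_det]
      exact (map_ne_zero _).2 hdet
    exact hunit.mul_right_eq_zero.1 (by rw [sub_mul, hA, one_mul, sub_self])

/-- The normal subgroup of a Camina pair is solvable. -/
theorem solvable_normal (hc : Camina.Pair N) (hN2 : N ≠ ⊤) : Group.IsSolvable N := by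
  rcases Camina.main hc with h | h | h
  · haveI := nilpotent_of_centralizer_le hc hN2 h
    infer_instance
  · obtain ⟨q, j, hq, -, hj⟩ := (isPrimePow_nat_iff _).1 h
    haveI := Fact.mk hq
    haveI := (IsPGroup.of_card hj.symm : IsPGroup q N).isNilpotent
    infer_instance
  · obtain ⟨p, j, hp, hj0, hj⟩ := (isPrimePow_nat_iff _).1 h
    haveI := Fact.mk hp
    have hco := Camina.coprime_pResidual hc (p := p) (hj ▸ dvd_pow_self p hj0.ne')
    set M₀ : Subgroup N := Cfsg.pResidual p N with hM₀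
    haveI : M₀.Normal := inferInstance
    haveI hsolq : Group.IsSolvable (N ⧸ M₀) := by
      haveI := (Fusion.isPGroup_quotient_pResidual (p := p) (G := N)).isNilpotent
      infer_instance
    haveI : Group.IsSolvable M₀ := by
      rcases eq_or_ne p 2 with rfl | hp2
      · exact Cfsg.Agent.S0205.result (Nat.coprime_two_right.1 hco)
      · set M : Subgroup G := M₀.map N.subtype with hM
        haveI : M.Normal := ConjAct.normal_of_characteristic_of_normal
        have hMc : Nat.card M = Nat.card M₀ := Subgroup.card_map_of_injective N.subtype_injective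
        have hGM : IsPGroup p (G ⧸ M) := by
          obtain ⟨a, ha⟩ := IsPGroup.iff_card.1 (Fusion.isPGroup_quotient_pResidual (p := p) (G := N))
          refine IsPGroup.of_card (n := a + j) ?_
          rw [← Subgroup.index_eq_card, ← Subgroup.relIndex_mul_index (Subgroup.map_subtype_le M₀ : M ≤ N),
            Subgroup.relIndex, Subgroup.subgroupOf, Subgroup.comap_map_eq_self_of_injective N.subtype_injective,
            Subgroup.index_eq_card, ha, pow_add, hj]
        haveI := nilpotent_of_pgroup_quotient hc hN2 hp2 (Subgroup.map_subtype_le M₀ : M ≤ N) hGM (hMc ▸ hco)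
        exact Group.isSolvable_of_surjective (f := (M₀.equivMapOfInjective _ N.subtype_injective).symm.toMonoidHom)
          (M₀.equivMapOfInjective _ N.subtype_injective).symm.surjective
    exact (Group.isSolvable_iff_subgroup_quotient M₀).2 ⟨inferInstance, inferInstance⟩

end Cfsg.Agent.Solv.CaminaFPF
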