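import Mathlib.RingTheory.SimpleModule.IsAlgClosed
import Mathlib.RepresentationTheory.Maschke
import Mathlib.Algebra.Central.Matrix
import Mathlib.LinearAlgebra.Matrix.NonsingularInverse
import Mathlib.Algebra.MonoidAlgebra.Basic
import Mathlib.GroupTheory.Index

/-!
# Blocks of the group algebras of the subgroups, inside the group algebra
-/

set_option autoImplicit false

open scoped BigOperators

namespace Cfsg.Agent.Solv.CaminaFPF

open MonoidAlgebra

universe u v

variable {K : Type v} [Field K] {P : Type u} [Group P]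

/-- The element of the group algebra attached to a group element. -/
noncomputable def u (g : P) : MonoidAlgebra K P := MonoidAlgebra.of K P g

theorem u_mul (g h : P) : (u (g * h) : MonoidAlgebra K P) = u g * u h := map_mul _ _ _

theorem u_one : (u (1 : P) : MonoidAlgebra K P) = 1 := map_one _

theorem u_inv_mul (g : P) : (u g⁻¹ : MonoidAlgebra K P) * u g = 1 := by
  rw [← u_mul, inv_mul_cancel, u_one]

theorem u_mul_inv (g : P) : (u g : MonoidAlgebra K P) * u g⁻¹ = 1 := by
  rw [← u_mul, mul_inv_cancel, u_one]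

/-- Conjugation by a group element. -/
noncomputable def cj (g : P) : MonoidAlgebra K P →ₐ[K] MonoidAlgebra K P where
  toFun a := u g * a * u g⁻¹
  map_one' := by simp [u_mul_inv]
  map_mul' a b := by
    calc u g * (a * b) * u g⁻¹ = u g * a * 1 * b * u g⁻¹ := by simp [mul_assoc]
      _ = _ := by rw [← u_inv_mul g]; simp only [mul_assoc]
  map_zero' := by simp
  map_add' a b := by simp [mul_add, add_mul]
  commutes' c := by
    rw [← Algebra.commutes c (u g), mul_assoc, u_mul_inv, mul_one]

theorem cj_apply (g : P) (a : MonoidAlgebra K P) : cj g a = u g * a * u g⁻¹ := rfl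

theorem cj_u (g h : P) : cj g (u h : MonoidAlgebra K P) = u (g * h * g⁻¹) := by
  rw [cj_apply, u_mul, u_mul]

theorem cj_mul (g h : P) (a : MonoidAlgebra K P) : cj (g * h) a = cj g (cj h a) := by
  simp only [cj_apply, u_mul, mul_inv_rev, mul_assoc]

theorem cj_one (a : MonoidAlgebra K P) : cj 1 a = a := by simp [cj_apply, u_one]

theorem cj_inv_cj (g : P) (a : MonoidAlgebra K P) : cj g⁻¹ (cj g a) = a := by
  rw [← cj_mul, inv_mul_cancel, cj_one]

theorem cj_cj_inv (g : P) (a : MonoidAlgebra K P) : cj g (cj g⁻¹ a) = a := by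
  rw [← cj_mul, mul_inv_cancel, cj_one]

theorem cj_injective (g : P) : Function.Injective (cj g : MonoidAlgebra K P → MonoidAlgebra K P) :=
  Function.LeftInverse.injective (cj_inv_cj g)

theorem u_mul_eq_cj_mul (g : P) (a : MonoidAlgebra K P) : u g * a = cj g a * u g := by
  rw [cj_apply, mul_assoc, u_inv_mul, mul_one]

/-- The group algebra of a subgroup, inside that of the group. -/
noncomputable def alg (S : Subgroup P) : Subalgebra K (MonoidAlgebra K P) :=
  (MonoidAlgebra.mapDomainAlgHom K K S.subtype).range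

theorem u_mem_alg {S : Subgroup P} {s : P} (hs : s ∈ S) : (u s : MonoidAlgebra K P) ∈ alg S :=
  ⟨MonoidAlgebra.of K S ⟨s, hs⟩, by simp [u]⟩

theorem alg_induction {S : Subgroup P} {p : MonoidAlgebra K P → Prop} {a : MonoidAlgebra K P}
    (ha : a ∈ alg S) (hu : ∀ s ∈ S, p (u s)) (hadd : ∀ x y, p x → p y → p (x + y))
    (hsmul : ∀ (c : K) (x), p x → p (c • x)) : p a := by
  obtain ⟨b, rfl⟩ := ha
  induction b using MonoidAlgebra.induction_on with
  | of s =>
    convert hu s.1 s.2 using 1
    simp [u]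
  | add f g hf hg => rw [map_add]; exact hadd _ _ hf hg
  | smul c f hf =>
    show p ((MonoidAlgebra.mapDomainAlgHom K K S.subtype) (c • f))
    rw [map_smul]; exact hsmul c _ hf

theorem alg_mono {S S' : Subgroup P} (h : S ≤ S') {a : MonoidAlgebra K P} (ha : a ∈ alg S) : a ∈ alg S' := by
  exact alg_induction (p := fun a => a ∈ alg S') ha (fun s hs => u_mem_alg (h hs))
    (fun x y hx hy => add_mem hx hy) (fun c x hx => Subalgebra.smul_mem _ hx c)

theorem cj_mem_alg {S : Subgroup P} {g : P} (hg : ∀ s ∈ S, g * s * g⁻¹ ∈ S) {a : MonoidAlgebra K P}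
    (ha : a ∈ alg S) : cj g a ∈ alg S := by
  refine alg_induction (p := fun a => cj g a ∈ alg S) ha (fun s hs => ?_) (fun x y hx hy => ?_) (fun c x hx => ?_)
  · rw [cj_u]; exact u_mem_alg (hg s hs)
  · rw [map_add]; exact add_mem hx hy
  · rw [map_smul]; exact Subalgebra.smul_mem _ hx c

/-- A block of the group algebra of `S`. -/
structure Blk (S : Subgroup P) (e : MonoidAlgebra K P) : Prop where
  mem : e ∈ alg S
  ne : e ≠ 0
  idem : e * e = e
  comm : ∀ a ∈ alg S, a * e = e * a
  scalar : ∀ z ∈ alg S, (∀ a ∈ alg S, a * z = z * a) → ∃ c : K, z * e = c • e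

theorem Blk.mul_cases {S : Subgroup P} {e f : MonoidAlgebra K P} (he : Blk S e) (hf : f ∈ alg S)
    (hfi : f * f = f) (hfc : ∀ a ∈ alg S, a * f = f * a) : f * e = e ∨ f * e = 0 := by
  obtain ⟨c, hc⟩ := he.scalar f hf hfc
  have h : (c * c) • e = c • e := by
    have h1 : (f * e) * (f * e) = f * e := by
      calc (f * e) * (f * e) = f * ((e * f) * e) := by simp only [mul_assoc]
        _ = f * ((f * e) * e) := by rw [hfc e he.mem]
        _ = (f * f) * (e * e) := by simp only [mul_assoc]
        _ = _ := by rw [hfi, he.idem]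
    rw [hc, smul_mul_smul_comm, he.idem] at h1
    exact h1
  rcases eq_or_ne c 0 with h0 | h0
  · right; rw [hc, h0, zero_smul]
  · left
    have h2 : (c * c - c) • e = 0 := by rw [sub_smul, h, sub_self]
    rcases smul_eq_zero.1 h2 with h3 | h3
    · have : c = 1 := by
        have h4 : c * (c - 1) = 0 := by rw [← h3]; ring
        exact sub_eq_zero.1 ((mul_eq_zero.1 h4).resolve_left h0)
      rw [hc, this, one_smul]
    · exact absurd h3 he.ne

theorem Blk.eq_of_mul_ne_zero {S : Subgroup P} {e f : MonoidAlgebra K P} (he : Blk S e) (hf : Blk S f)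
    (h : e * f ≠ 0) : e = f := by
  have h1 := (hf.mul_cases he.mem he.idem he.comm).resolve_right h
  have h' : f * e ≠ 0 := by rwa [hf.comm e he.mem] at h
  have h2 := (he.mul_cases hf.mem hf.idem hf.comm).resolve_right h'
  rw [← hf.comm e he.mem, h1] at h2
  exact h2.symm

theorem Blk.mul_eq_zero {S : Subgroup P} {e f : MonoidAlgebra K P} (he : Blk S e) (hf : Blk S f)
    (h : e ≠ f) : e * f = 0 := by
  by_contra h'
  exact h (he.eq_of_mul_ne_zero hf h')

theorem Blk.cj {S : Subgroup P} {e : MonoidAlgebra K P} (he : Blk S e) {g : P}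
    (hg : ∀ s ∈ S, g * s * g⁻¹ ∈ S) (hg' : ∀ s ∈ S, g⁻¹ * s * g ∈ S) :
    Blk S (CaminaFPF.cj g e) where
  mem := cj_mem_alg hg he.mem
  ne := fun h => he.ne (cj_injective g (by rw [h, map_zero]))
  idem := by rw [← map_mul, he.idem]
  comm := fun a ha => by
    have hm : CaminaFPF.cj g⁻¹ a ∈ alg S := cj_mem_alg (fun s hs => by simpa using hg' s hs) ha
    have h := congrArg (CaminaFPF.cj g) (he.comm _ hm)
    simpa [map_mul, cj_cj_inv] using h
  scalar := fun z hz hzc => by
    have hm : CaminaFPF.cj g⁻¹ z ∈ alg S := cj_mem_alg (fun s hs => by simpa using hg' s hs) hz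
    obtain ⟨c, hc⟩ := he.scalar _ hm fun a ha => by
      have h := congrArg (CaminaFPF.cj g⁻¹) (hzc _ (cj_mem_alg hg ha))
      simpa [map_mul, cj_inv_cj] using h
    exact ⟨c, by simpa [map_mul, cj_cj_inv, map_smul] using congrArg (CaminaFPF.cj g) hc⟩

/-- Every nonzero matrix generates the unit ideal. -/
theorem matrix_exists_sum {d : ℕ} {m : Matrix (Fin d) (Fin d) K} (hm : m ≠ 0) :
    ∃ a b : Fin d → Matrix (Fin d) (Fin d) K, ∑ i, a i * m * b i = 1 := by
  obtain ⟨j, k, hjk⟩ : ∃ j k, m j k ≠ 0 := by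
    by_contra h
    push Not at h
    exact hm (Matrix.ext h)
  refine ⟨fun i => Matrix.single i j (m j k)⁻¹, fun i => Matrix.single k i 1, ?_⟩
  simp only [Matrix.single_mul_mul_single, inv_mul_cancel₀ hjk, mul_one, Matrix.sum_single_eq_diagonal,
    Matrix.diagonal_one]

/-- An injective multiplicative linear map of a matrix algebra is conjugation by a unit. -/
theorem matrix_intertwiner {d : ℕ} [NeZero d] (β : Matrix (Fin d) (Fin d) K →ₗ[K] Matrix (Fin d) (Fin d) K)
    (hmul : ∀ m n, β (m * n) = β m * β n) (hinj : Function.Injective β) :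
    ∃ B : Matrix (Fin d) (Fin d) K, IsUnit B ∧ (∀ m, β m * B = B * m) ∧ β B = B := by
  set o : Fin d := ⟨0, Nat.pos_of_ne_zero (NeZero.ne d)⟩
  have hA : β (Matrix.single o o 1) ≠ 0 := fun h => by
    have := hinj (h.trans (map_zero β).symm)
    simpa using congrFun (congrFun this o) o
  obtain ⟨j, k, hjk⟩ : ∃ j k, β (Matrix.single o o 1) j k ≠ 0 := by
    by_contra h
    push Not at h
    exact hA (Matrix.ext h)
  set C : Matrix (Fin d) (Fin d) K := Matrix.single k o 1
  set B : Matrix (Fin d) (Fin d) K := ∑ i, β (Matrix.single i o 1) * C * Matrix.single o i 1 with hB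
  have hint : ∀ m, β m * B = B * m := by
    intro m
    induction m using Matrix.induction_on' with
    | h_zero => simp
    | h_add p q hp hq => rw [map_add, add_mul, hp, hq, mul_add]
    | h_std_basis a b c =>
      have hc : Matrix.single a b c = c • Matrix.single a b (1 : K) := by simp
      have hl : β (Matrix.single a b 1) * B = β (Matrix.single a o 1) * C * Matrix.single o b 1 := by
        rw [hB, Finset.mul_sum, Finset.sum_eq_single b]
        · rw [← mul_assoc, ← mul_assoc, ← hmul, Matrix.single_mul_single_same, mul_one]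
        · intro i _ hi
          rw [← mul_assoc, ← mul_assoc, ← hmul, Matrix.single_mul_single_of_ne (h := Ne.symm hi), map_zero,
            zero_mul, zero_mul]
        · simp
      have hr : B * Matrix.single a b 1 = β (Matrix.single a o 1) * C * Matrix.single o b 1 := by
        rw [hB, Finset.sum_mul, Finset.sum_eq_single a]
        · rw [mul_assoc, Matrix.single_mul_single_same, mul_one]
        · intro i _ hi
          rw [mul_assoc, Matrix.single_mul_single_of_ne (h := hi), mul_zero]
        · simp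
      rw [hc, map_smul, smul_mul_assoc, hl, mul_smul_comm, hr]
  have hne : B ≠ 0 := by
    intro h
    have h1 : (β (Matrix.single o o 1) * B) j o = β (Matrix.single o o 1) j k := by
      rw [hB, Finset.mul_sum, Finset.sum_eq_single o]
      · rw [← mul_assoc, ← mul_assoc, ← hmul, Matrix.single_mul_single_same, mul_one, mul_assoc,
          Matrix.single_mul_single_same, mul_one, Matrix.mul_single_apply_same, mul_one]
      · intro i _ hi
        rw [← mul_assoc, ← mul_assoc, ← hmul, Matrix.single_mul_single_of_ne (h := Ne.symm hi), map_zero,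
          zero_mul, zero_mul]
      · simp
    rw [h, mul_zero, Matrix.zero_apply] at h1
    exact hjk h1.symm
  have hu : IsUnit B := by
    rw [← Matrix.mulVec_injective_iff_isUnit]
    intro v w hvw
    by_contra hvw'
    obtain ⟨l, hl⟩ := Function.ne_iff.1 hvw'
    apply hne
    have hcol : ∀ a b, B a b = 0 := by
      intro a b
      have h2 := congrArg (fun m => (m.mulVec (v - w)) a) (hint (Matrix.single b l 1))
      simp only [← Matrix.mulVec_mulVec, Matrix.mulVec_sub, hvw, sub_self, Matrix.mulVec_zero, Pi.zero_apply] at h2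
      rw [← Matrix.mulVec_sub, ← Matrix.mulVec_sub, Matrix.single_mulVec_eq, one_mul, Matrix.mulVec_smul,
        Matrix.mulVec_single_one] at h2
      have h3 : (v l - w l) * B a b = 0 ∨ B a b * (v l - w l) = 0 := by
        simp at h2 ⊢
        tauto
      rcases h3 with h3 | h3
      · exact (mul_eq_zero.1 h3).resolve_left (sub_ne_zero.2 hl)
      · exact (mul_eq_zero.1 h3).resolve_right (sub_ne_zero.2 hl)
    exact Matrix.ext hcol
  exact ⟨B, hu, hint, hu.mul_right_cancel (hint B)⟩

/-- A block carries a matrix algebra. -/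
structure Corner (S : Subgroup P) (e : MonoidAlgebra K P) where
  /-- the size -/
  d : ℕ
  pos : NeZero d
  /-- the parametrisation -/
  L : Matrix (Fin d) (Fin d) K →ₗ[K] MonoidAlgebra K P
  map_mul : ∀ m n, L (m * n) = L m * L n
  inj : Function.Injective L
  map_one : L 1 = e
  mem : ∀ m, L m ∈ alg S
  exists_eq : ∀ a ∈ alg S, ∃ m, L m = a * e

theorem exists_family [IsAlgClosed K] [Finite P] (hK : (Nat.card P : K) ≠ 0) (S : Subgroup P) :
    ∃ B : Finset (MonoidAlgebra K P), (∀ e ∈ B, Blk S e ∧ Nonempty (Corner S e)) ∧ ∑ e ∈ B, e = 1 := by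
  classical
  haveI : NeZero (Nat.card S : K) := ⟨fun h => hK (by
    obtain ⟨k, hk⟩ := S.card_subgroup_dvd_card
    rw [hk, Nat.cast_mul, h, zero_mul])⟩
  obtain ⟨n, d, hd, ⟨Φ⟩⟩ := IsSemisimpleRing.exists_algEquiv_pi_matrix_of_isAlgClosed K (MonoidAlgebra K S)
  set ι := MonoidAlgebra.mapDomainAlgHom K K S.subtype with hι
  have hιinj : Function.Injective ι := by
    intro a b h
    exact MonoidAlgebra.mapDomain_injective S.subtype_injective h
  let L : ∀ i, Matrix (Fin (d i)) (Fin (d i)) K →ₗ[K] MonoidAlgebra K P := fun i =>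
    ι.toLinearMap ∘ₗ Φ.symm.toLinearMap ∘ₗ LinearMap.single K (fun i => Matrix (Fin (d i)) (Fin (d i)) K) i
  have hL : ∀ i m, L i m = ι (Φ.symm (Pi.single i m)) := fun i m => rfl
  have hLmul : ∀ i m m', L i (m * m') = L i m * L i m' := by
    intro i m m'
    simp only [hL, ← map_mul, ← Pi.single_mul]
  have hmem : ∀ i m, L i m ∈ alg S := fun i m => ⟨_, (hL i m).symm⟩
  have hproj : ∀ i, ∀ a : MonoidAlgebra K S, ι a * L i 1 = L i (Φ a i) ∧ L i 1 * ι a = L i (Φ a i) := by
    intro i a
    simp only [hL]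
    constructor
    · rw [← map_mul]; congr 1
      rw [← Φ.symm_apply_apply a, ← map_mul, Φ.apply_symm_apply]; congr 1
      ext1 j
      rcases eq_or_ne j i with rfl | hj
      · simp
      · simp [Pi.single_eq_of_ne hj]
    · rw [← map_mul]; congr 1
      rw [← Φ.symm_apply_apply a, ← map_mul, Φ.apply_symm_apply]; congr 1
      ext1 j
      rcases eq_or_ne j i with rfl | hj
      · simp
      · simp [Pi.single_eq_of_ne hj]
  have hLinj : ∀ i, Function.Injective (L i) := fun i a b h => by
    simp only [hL] at h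
    exact Pi.single_injective i (Φ.symm.injective (hιinj h))
  have hsum : ∑ i, L i 1 = 1 := by
    simp only [hL, ← map_sum]
    rw [show (∑ i, Pi.single i (1 : Matrix (Fin (d i)) (Fin (d i)) K)) = (1 : ∀ i, Matrix (Fin (d i)) (Fin (d i)) K)
      from Finset.univ_sum_single 1, map_one, map_one]
  have hblk : ∀ i, Blk S (L i 1) := by
    intro i
    haveI := hd i
    refine ⟨hmem i 1, fun h => ?_, by rw [← hLmul, mul_one], ?_, ?_⟩
    · exact one_ne_zero (hLinj i (h.trans (map_zero _).symm))
    · rintro _ ⟨a, rfl⟩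
      exact (hproj i a).1.trans (hproj i a).2.symm
    · rintro _ ⟨z, rfl⟩ hz
      have hc : Φ z i ∈ Set.range (Matrix.scalar (Fin (d i)) : K → _) := by
        refine Matrix.mem_range_scalar_of_commute_single fun j k _ => ?_
        have h := hz _ (hmem i (Matrix.single j k 1))
        apply hLinj i
        rw [hLmul, hLmul]
        conv_lhs => rw [← (hproj i z).2]
        conv_rhs => rw [← (hproj i z).1]
        have h1 : L i (Matrix.single j k 1) * L i 1 = L i (Matrix.single j k 1) := by rw [← hLmul, mul_one]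
        have h2 : L i 1 * L i (Matrix.single j k 1) = L i (Matrix.single j k 1) := by rw [← hLmul, one_mul]
        calc L i (Matrix.single j k 1) * (L i 1 * ι z) = L i (Matrix.single j k 1) * ι z := by rw [← mul_assoc, h1]
          _ = ι z * L i (Matrix.single j k 1) := h
          _ = _ := by rw [mul_assoc, h2]
      obtain ⟨c, hc⟩ := hc
      refine ⟨c, ?_⟩
      show ι z * L i 1 = c • L i 1
      rw [(hproj i z).1, ← hc, ← map_smul]
      congr 1
      exact (Matrix.smul_one_eq_diagonal c).symm
  have hne : ∀ i j, i ≠ j → L i 1 ≠ L j 1 := by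
    intro i j hij h
    simp only [hL] at h
    have h' := congrFun (Φ.symm.injective (hιinj h)) i
    rw [Pi.single_eq_same, Pi.single_eq_of_ne hij] at h'
    haveI := hd i
    exact one_ne_zero h'
  refine ⟨Finset.univ.image fun i => L i 1, fun e he => ?_, ?_⟩
  · obtain ⟨i, -, rfl⟩ := Finset.mem_image.1 he
    exact ⟨hblk i, ⟨⟨d i, hd i, L i, hLmul i, hLinj i, rfl, hmem i, fun a ⟨b, hb⟩ => ⟨Φ b i, by
      rw [← hb]; exact (hproj i b).1.symm⟩⟩⟩⟩
  · rw [Finset.sum_image fun i _ j _ h => by by_contra hij; exact hne i j hij h, hsum]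

theorem Blk.exists_corner [IsAlgClosed K] [Finite P] (hK : (Nat.card P : K) ≠ 0) {S : Subgroup P}
    {e : MonoidAlgebra K P} (he : Blk S e) : Nonempty (Corner S e) := by
  obtain ⟨B, hB, hsum⟩ := exists_family hK S
  obtain ⟨f, hf, hne⟩ : ∃ f ∈ B, e * f ≠ 0 := by
    by_contra h
    push Not at h
    apply he.ne
    calc e = e * ∑ f ∈ B, f := by rw [hsum, mul_one]
      _ = 0 := by rw [Finset.mul_sum]; exact Finset.sum_eq_zero h
  rw [he.eq_of_mul_ne_zero (hB f hf).1 hne]
  exact (hB f hf).2

/-- A block is simple: a map killing a nonzero element of it kills the block. -/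
theorem Blk.map_eq_zero [IsAlgClosed K] [Finite P] (hK : (Nat.card P : K) ≠ 0) {S : Subgroup P}
    {e a : MonoidAlgebra K P} (he : Blk S e) (ha : a ∈ alg S) (hae : a * e ≠ 0) {M : Type*}
    [Semiring M] (φ : MonoidAlgebra K P →+* M) {x : M} (hx : ∀ b ∈ alg S, Commute x (φ b))
    (h : φ (a * e) * x = 0) : φ e * x = 0 := by
  obtain ⟨C⟩ := he.exists_corner hK
  obtain ⟨m, hm⟩ := C.exists_eq a ha
  have hm0 : m ≠ 0 := fun h0 => hae (by rw [← hm, h0, map_zero])
  obtain ⟨p, q, hpq⟩ := matrix_exists_sum hm0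
  rw [← C.map_one, ← hpq, map_sum, map_sum, Finset.sum_mul]
  refine Finset.sum_eq_zero fun i _ => ?_
  rw [C.map_mul, C.map_mul, map_mul, map_mul, mul_assoc, ← (hx _ (C.mem (q i))).eq, ← mul_assoc,
    mul_assoc (φ (C.L (p i))), hm, h, mul_zero, zero_mul]

/-- The twisting element for an element fixing a block. -/
theorem Blk.exists_intertwiner [IsAlgClosed K] [Finite P] (hK : (Nat.card P : K) ≠ 0) {S : Subgroup P}
    {e : MonoidAlgebra K P} (he : Blk S e) {g : P} (hg : ∀ s ∈ S, g * s * g⁻¹ ∈ S)
    (hfix : CaminaFPF.cj g e = e) :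
    ∃ b ∈ alg S, b ≠ 0 ∧ b * e = b ∧ CaminaFPF.cj g b = b ∧ ∀ a ∈ alg S, CaminaFPF.cj g a * b = b * a := by
  obtain ⟨C⟩ := he.exists_corner hK
  haveI := C.pos
  have hLe : ∀ m, C.L m * e = C.L m := fun m => by
    conv_lhs => arg 2; rw [← C.map_one]
    rw [← C.map_mul, mul_one]
  have hinv : ∀ m, ∃ n, C.L n = CaminaFPF.cj g (C.L m) := by
    intro m
    obtain ⟨n, hn⟩ := C.exists_eq _ (cj_mem_alg hg (C.mem m))
    refine ⟨n, hn.trans ?_⟩
    conv_lhs => arg 2; rw [← hfix]
    rw [← map_mul, hLe]
  choose β hβ using hinv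
  let βl : Matrix (Fin C.d) (Fin C.d) K →ₗ[K] Matrix (Fin C.d) (Fin C.d) K :=
    { toFun := β
      map_add' := fun m n => C.inj (by rw [map_add, hβ, hβ, hβ, map_add, map_add])
      map_smul' := fun c m => C.inj (by rw [map_smul, hβ, hβ, map_smul, map_smul]; rfl) }
  obtain ⟨B, hBu, hB, hBB⟩ := matrix_intertwiner βl
    (fun m n => C.inj (by
      show C.L (β (m * n)) = C.L (β m * β n)
      rw [C.map_mul, hβ, hβ, hβ, C.map_mul, map_mul]))
    (fun m n h => C.inj (cj_injective g (by
      have h' : β m = β n := h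
      rw [← hβ, ← hβ, h'])))
  refine ⟨C.L B, C.mem B, ?_, hLe B, ?_, fun a ha => ?_⟩
  · intro h
    exact hBu.ne_zero (C.inj (h.trans (map_zero _).symm))
  · rw [← hβ]; exact congrArg C.L hBB
  · obtain ⟨m, hm⟩ := C.exists_eq a ha
    have h1 : e * C.L B = C.L B := by rw [← he.comm _ (C.mem B), hLe]
    calc CaminaFPF.cj g a * C.L B = CaminaFPF.cj g a * CaminaFPF.cj g e * C.L B := by
          rw [hfix, mul_assoc, h1]
      _ = C.L (β m) * C.L B := by rw [← map_mul, ← hm, hβ]
      _ = C.L B * C.L m := by rw [← C.map_mul, ← C.map_mul]; exact congrArg C.L (hB m)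
      _ = C.L B * a := by rw [hm, he.comm a ha, ← mul_assoc, hLe]

end Cfsg.Agent.Solv.CaminaFPF
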