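import Mathlib.GroupTheory.PGroup
import Mathlib.FieldTheory.IsAlgClosed.Basic
import Mathlib.RingTheory.RootsOfUnity.PrimitiveRoots
import Mathlib.RingTheory.Adjoin.Basic
import Mathlib.Algebra.Field.GeomSum
import Cfsg.Agent.S0016

/-!
# Representations in which everything outside a normal subgroup acts fixed-point-freely

The descent step for Camina pairs: a representation that is homogeneous on `T`, fixed-point-free
outside `T` and has vanishing class averages there forces the quotient by `T` to be cyclic.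
-/

set_option autoImplicit false

open scoped BigOperators

namespace Cfsg.Agent.Solv.CaminaFPF

universe u v w

variable {K : Type v} [Field K] {P : Type u} [Group P] [Fintype P] {p : ℕ} [hp : Fact p.Prime]
  {A : Type w} [Ring A] [Algebra K A] (ρ : P →* A)

open Classical in
/-- The elements of a subgroup, as a finite set. -/
noncomputable def elems (I : Subgroup P) : Finset P := Finset.univ.filter fun g => g ∈ I

theorem mem_elems {I : Subgroup P} {g : P} : g ∈ elems I ↔ g ∈ I := by simp [elems]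

theorem card_elems (I : Subgroup P) : (elems I).card = Nat.card I := by
  classical
  rw [Nat.card_eq_fintype_card, Fintype.card_subtype, elems]

variable (K) in
/-- The hypothesis of the descent. -/
structure Good (I T : Subgroup P) (π : A) : Prop where
  ne : π ≠ 0
  idem : π * π = π
  comm : ∀ g ∈ I, ρ g * π = π * ρ g
  le : T ≤ I
  normal : ∀ g ∈ I, ∀ t ∈ T, g * t * g⁻¹ ∈ T
  fpf : ∀ x ∈ I, x ∉ T → ∀ a : A, π * a = a → ρ x * a = a → a = 0
  inv : ∀ x ∈ I, x ∉ T → (∑ g ∈ elems I, ρ (g⁻¹ * x * g)) * π = 0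
  homog : ∀ a ∈ Algebra.adjoin K (ρ '' (T : Set P)), (∀ t ∈ T, ρ t * (a * π) = a * π * ρ t) →
    ∃ c : K, a * π = c • π
  nc : ∀ g ∈ I, ¬ I ≤ Subgroup.zpowers g ⊔ T

theorem exists_central_pow (Q : Type u) [Group Q] [Finite Q] (hQ : IsPGroup p Q) (N : Subgroup Q) [N.Normal]
    (hN : N ≠ ⊥) : ∃ z ∈ N, z ∈ Subgroup.center Q ∧ z ^ p = 1 ∧ z ≠ 1 := by
  obtain ⟨k, hk⟩ := IsPGroup.iff_card.1 (hQ.to_subgroup N)
  have hk0 : k ≠ 0 := fun h0 => hN (Subgroup.eq_bot_of_card_eq _ (by rw [hk, h0, pow_zero]))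
  have hP' : IsPGroup p (ConjAct Q) := hQ.of_equiv ConjAct.toConjAct
  obtain ⟨b, hb, hb1⟩ := hP'.exists_fixed_point_of_prime_dvd_card_of_fixed_point ↥N
    (hk ▸ dvd_pow_self p hk0) (a := 1) (by intro g; exact smul_one g)
  have hbc : (b : Q) ∈ Subgroup.center Q := Subgroup.mem_center_iff.2 fun g => by
    have h := congrArg Subtype.val (hb (ConjAct.toConjAct g))
    change g * (b : Q) * g⁻¹ = b at h
    exact mul_inv_eq_iff_eq_mul.1 h
  obtain ⟨m, hm⟩ := IsPGroup.iff_orderOf.1 hQ (b : Q)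
  have hm0 : m ≠ 0 := fun h0 =>
    hb1 (Subtype.ext (orderOf_eq_one_iff.1 (by rw [hm, h0, pow_zero])).symm)
  refine ⟨(b : Q) ^ p ^ (m - 1), N.pow_mem b.2 _, Subgroup.pow_mem _ hbc _, ?_, ?_⟩
  · rw [← pow_mul, ← pow_succ, show m - 1 + 1 = m by omega, ← hm, pow_orderOf_eq_one]
  · intro h
    have h1 := orderOf_dvd_of_pow_eq_one h
    rw [hm, Nat.pow_dvd_pow_iff_le_right hp.out.one_lt] at h1
    omega

variable {ρ}

theorem map_conj_pow (g X : P) (n : ℕ) : ρ (g⁻¹ * X ^ n * g) = ρ (g⁻¹ * X * g) ^ n := by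
  rw [← map_pow]
  congr 1
  rw [show g⁻¹ * X * g = MulAut.conj g⁻¹ X by simp, ← map_pow]
  simp

variable {I T : Subgroup P} {π : A}

theorem Good.proj_pow (h : Good K ρ I T π) {g : P} (hg : g ∈ I) (n : ℕ) :
    (ρ g * π) ^ n * π = ρ (g ^ n) * π := by
  induction n with
  | zero => simp
  | succ n ih =>
    rw [pow_succ', mul_assoc (ρ g * π), ih, map_pow, map_pow, mul_assoc, ← mul_assoc π,
      ← (show Commute (ρ g ^ n) π from (show Commute (ρ g) π from h.comm g hg).pow_left n).eq, mul_assoc,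
      h.idem, ← mul_assoc, ← pow_succ']

theorem Good.no_fix (h : Good K ρ I T π) {x : P} (hx : x ∈ I) (hfix : ρ x * π = π) : x ∈ T :=
  by_contra fun hxT => h.ne (h.fpf x hx hxT π h.idem hfix)

theorem Good.no_order (hK : (Nat.card P : K) ≠ 0) (h : Good K ρ I T π) {x : P} (hx : x ∈ I) (hxT : x ∉ T)
    (hfix : ρ (x ^ p) * π = π) : False := by
  have hxp : x ^ p ∈ T := h.no_fix (I.pow_mem hx p) hfix
  set e := ∑ i ∈ Finset.range p, ρ (x ^ i) * π with he
  have hπe : π * e = e := by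
    rw [he, Finset.mul_sum]
    refine Finset.sum_congr rfl fun i _ => ?_
    rw [← mul_assoc, ← h.comm _ (I.pow_mem hx i), mul_assoc, h.idem]
  have hxe : ρ x * e = e := by
    rw [he, Finset.mul_sum]
    have h1 : ∀ i, ρ x * (ρ (x ^ i) * π) = ρ (x ^ (i + 1)) * π := fun i => by
      rw [← mul_assoc, ← map_mul, ← pow_succ']
    rw [Finset.sum_congr rfl fun i _ => h1 i]
    have h2 := Finset.sum_range_succ' (fun i => ρ (x ^ i) * π) p
    rw [Finset.sum_range_succ, hfix, pow_zero, map_one, one_mul] at h2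
    exact (add_right_cancel h2).symm
  have he0 : e = 0 := h.fpf x hx hxT e hπe hxe
  have hnot : ∀ i, 0 < i → i < p → x ^ i ∉ T := by
    intro i hi hip hmem
    apply hxT
    have hco : IsCoprime (i : ℤ) (p : ℤ) := Int.isCoprime_iff_nat_coprime.2
      (((Nat.Prime.coprime_iff_not_dvd hp.out).2 (Nat.not_dvd_of_pos_of_lt hi hip)).symm)
    obtain ⟨a, b, hab⟩ := hco
    have hx1 : x = (x ^ i) ^ a * (x ^ p) ^ b := by
      rw [← zpow_natCast x i, ← zpow_natCast x p, ← zpow_mul, ← zpow_mul, ← zpow_add,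
        show (i : ℤ) * a + (p : ℤ) * b = 1 by rw [← hab]; ring, zpow_one]
    rw [hx1]
    exact T.mul_mem (T.zpow_mem hmem a) (T.zpow_mem hxp b)
  have hsum : ∑ g ∈ elems I, ρ g⁻¹ * e * ρ g = (Nat.card I : K) • π := by
    have h1 : ∀ g ∈ elems I, ρ g⁻¹ * e * ρ g = ∑ i ∈ Finset.range p, ρ (g⁻¹ * x ^ i * g) * π := by
      intro g hg
      rw [he, Finset.mul_sum, Finset.sum_mul]
      refine Finset.sum_congr rfl fun i _ => ?_
      rw [map_mul, map_mul, mul_assoc, mul_assoc, mul_assoc, mul_assoc, h.comm g (mem_elems.1 hg)]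
    rw [Finset.sum_congr rfl h1, Finset.sum_comm, Finset.sum_eq_single 0]
    · simp [Nat.cast_smul_eq_nsmul, card_elems, Finset.sum_mul]
    · intro i hi hi0
      rw [← Finset.sum_mul]
      exact h.inv _ (I.pow_mem hx i) (hnot i (Nat.pos_of_ne_zero hi0) (Finset.mem_range.1 hi))
    · simp [hp.out.ne_zero]
  rw [Finset.sum_eq_zero (fun g _ => by rw [he0, mul_zero, zero_mul])] at hsum
  have hI : (Nat.card I : K) ≠ 0 := fun h0 => hK (by
    obtain ⟨k, hk⟩ := I.card_subgroup_dvd_card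
    rw [hk, Nat.cast_mul, h0, zero_mul])
  exact h.ne ((smul_eq_zero.1 hsum.symm).resolve_left hI)

theorem Good.scalar_case (hK : (Nat.card P : K) ≠ 0) (hp2 : p ≠ 2) (hP : IsPGroup p P) (h : Good K ρ I T π)
    (hs : ∀ t ∈ T, ∃ c : K, ρ t * π = c • π) : False := by
  let ψ : I →* A :=
    { toFun := fun g => ρ (g : P) * π + (1 - π)
      map_one' := by simp
      map_mul' := fun a b => by
        have ha := h.comm (a : P) a.2
        have h1 : ρ (a : P) * π * (1 - π) = 0 := by rw [mul_assoc, mul_sub, mul_one, h.idem, sub_self, mul_zero]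
        have h2 : (1 - π) * (ρ (b : P) * π) = 0 := by
          rw [h.comm (b : P) b.2, ← mul_assoc, sub_mul, one_mul, h.idem, sub_self, zero_mul]
        have h3 : ρ (a : P) * π * (ρ (b : P) * π) = ρ ((a * b : I) : P) * π := by
          rw [Subgroup.coe_mul, map_mul, mul_assoc (ρ (a : P)) π, ← mul_assoc π, ← h.comm (b : P) b.2,
            mul_assoc (ρ (b : P)), h.idem, mul_assoc]
        have h4 : (1 - π) * (1 - π) = 1 - π := by
          rw [mul_sub, mul_one, sub_mul, one_mul, h.idem, sub_self, sub_zero]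
        rw [add_mul, mul_add, mul_add, h1, h2, h3, h4, add_zero, zero_add] }
  have hψπ : ∀ g : I, ψ g * π = ρ (g : P) * π := fun g => by
    show (ρ (g : P) * π + (1 - π)) * π = _
    rw [add_mul, sub_mul, one_mul, mul_assoc, h.idem, sub_self, add_zero]
  set H := ψ.toHomUnits.range with hH
  have hHp : IsPGroup p H := by
    rw [hH, MonoidHom.range_eq_map]
    exact ((hP.to_subgroup I).to_subgroup ⊤).map _
  haveI : Finite H := Finite.of_surjective ψ.toHomUnits.rangeRestrict ψ.toHomUnits.rangeRestrict_surjective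
  have hval : ∀ g : I, ((ψ.toHomUnits g : Aˣ) : A) = ψ g := fun g => MonoidHom.coe_toHomUnits ψ g
  have hord : ∀ y ∈ H, y ^ p = 1 → ∃ c : K, c ^ p = 1 ∧ (y : A) = c • π + (1 - π) := by
    rintro _ ⟨g, rfl⟩ hy
    have h1 : ρ ((g : P) ^ p) * π = π := by
      have h2 : ψ (g ^ p) = 1 := by
        rw [← map_pow] at hy
        rw [← hval, hy]; rfl
      have h3 := hψπ (g ^ p)
      rw [h2, one_mul, SubgroupClass.coe_pow] at h3
      exact h3.symm
    have hgT : (g : P) ∈ T := by_contra fun hgT => h.no_order hK g.2 hgT h1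
    obtain ⟨c, hc⟩ := hs _ hgT
    refine ⟨c, ?_, ?_⟩
    · have h2 := h.proj_pow g.2 p
      rw [hc, h1, smul_pow, smul_mul_assoc] at h2
      have h3 : ∀ n : ℕ, π ^ n * π = π := by
        intro n
        induction n with
        | zero => simp
        | succ n ih => rw [pow_succ', mul_assoc, ih, h.idem]
      rw [h3] at h2
      have h4 : (c ^ p - 1) • π = 0 := by rw [sub_smul, one_smul, h2, sub_self]
      exact sub_eq_zero.1 ((smul_eq_zero.1 h4).resolve_right h.ne)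
    · rw [hval]
      show ρ (g : P) * π + (1 - π) = _
      rw [hc]
  have hcyc : IsCyclic H := by
    refine (S0016.result p hHp fun H₁ H₂ h₁ h₂ => ?_).resolve_right fun hh => hp2 hh.1
    haveI : Fact p.Prime := hp
    suffices hle : H₂ ≤ H₁ from (Subgroup.eq_of_le_of_card_ge hle (by rw [h₁, h₂])).symm
    intro y₂ hy₂
    obtain ⟨⟨y₁, hy₁⟩, hy₁'⟩ := H₁.ne_bot_iff_exists_ne_one.1 (fun hb => by
      rw [hb, Subgroup.card_bot] at h₁; exact hp.out.ne_one h₁.symm)
    have hy₁1 : y₁ ≠ 1 := fun hh => hy₁' (Subtype.ext hh)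
    have hpow : ∀ (L : Subgroup H), Nat.card L = p → ∀ y ∈ L, ((y : Aˣ)) ^ p = 1 := by
      intro L hL y hy
      have := congrArg Subtype.val (congrArg Subtype.val (pow_card_eq_one' (x := (⟨y, hy⟩ : L))))
      simpa [hL] using this
    obtain ⟨c₁, hc₁, he₁⟩ := hord _ y₁.2 (hpow H₁ h₁ y₁ hy₁)
    obtain ⟨c₂, hc₂, he₂⟩ := hord _ y₂.2 (hpow H₂ h₂ y₂ hy₂)
    have hc₁1 : c₁ ≠ 1 := fun hc => hy₁1 (Subtype.ext (Units.ext (by
      rw [he₁, hc, one_smul, add_sub_cancel]; rfl)))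
    have hprim : IsPrimitiveRoot c₁ p := by
      rw [← orderOf_eq_prime hc₁ hc₁1]; exact IsPrimitiveRoot.orderOf c₁
    haveI : NeZero p := ⟨hp.out.ne_zero⟩
    obtain ⟨i, -, hi⟩ := hprim.eq_pow_of_pow_eq_one hc₂
    have : y₂ = y₁ ^ i := by
      refine Subtype.ext (Units.ext ?_)
      rw [SubgroupClass.coe_pow, Units.val_pow_eq_pow_val, he₁, he₂, ← hi]
      clear hi
      induction i with
      | zero => simp
      | succ n ih =>
        rw [pow_succ (c₁ • π + (1 - π)), ← ih, add_mul, mul_add, mul_add, smul_mul_smul_comm, h.idem, ← pow_succ,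
          smul_mul_assoc, mul_sub π, mul_one, h.idem, sub_self, smul_zero, add_zero, mul_smul_comm, sub_mul, one_mul,
          h.idem, sub_self, smul_zero, zero_add, mul_sub, mul_one, sub_mul, one_mul, h.idem, sub_self, sub_zero]
    rw [this]
    exact H₁.pow_mem hy₁ i
  obtain ⟨⟨_, g, rfl⟩, hgen⟩ := hcyc.exists_generator
  refine h.nc g g.2 fun a ha => ?_
  obtain ⟨k, hk⟩ := hgen ⟨ψ.toHomUnits ⟨a, ha⟩, ⟨_, rfl⟩⟩
  have hk' : ψ.toHomUnits (g ^ k) = ψ.toHomUnits ⟨a, ha⟩ := by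
    rw [map_zpow]; exact congrArg Subtype.val hk
  have h1 : ψ.toHomUnits ((g ^ k)⁻¹ * ⟨a, ha⟩) = 1 := by rw [map_mul, map_inv, hk', inv_mul_cancel]
  set d : I := (g ^ k)⁻¹ * ⟨a, ha⟩ with hd
  have h2 : ρ (d : P) * π = π := by
    rw [← hψπ d, ← hval d, h1]; simp
  have h3 : (d : P) ∈ T := h.no_fix d.2 h2
  have : a = ((g : P) ^ k) * (d : P) := by simp [hd]
  rw [this]
  exact Subgroup.mul_mem_sup (Subgroup.zpow_mem _ (Subgroup.mem_zpowers _) k) h3

theorem Good.false [IsAlgClosed K] (hK : (Nat.card P : K) ≠ 0) (hp2 : p ≠ 2) (hP : IsPGroup p P) :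
    ∀ (n : ℕ) (I T : Subgroup P) (π : A), Nat.card I = n → Good K ρ I T π → False := by
  classical
  intro n
  induction n using Nat.strong_induction_on with
  | _ n ih =>
  intro I T π hn h
  subst hn
  have hpK : (p : K) ≠ 0 := by
    intro h0
    obtain ⟨k, hk⟩ := IsPGroup.iff_card.1 hP
    rcases k with _ | k
    · have : Subsingleton P := (Nat.card_eq_one_iff_unique.1 (by simpa using hk)).1
      exact h.nc 1 I.one_mem fun a _ => by rw [Subsingleton.elim a 1]; exact Subgroup.one_mem _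
    · exact hK (by rw [hk, pow_succ, Nat.cast_mul, h0, mul_zero])
  by_cases hs : ∀ t ∈ T, ∃ c : K, ρ t * π = c • π
  · exact h.scalar_case hK hp2 hP hs
  -- scalar elements
  let Ts : Subgroup P :=
    { carrier := {t | t ∈ T ∧ ∃ c : K, ρ t * π = c • π}
      one_mem' := ⟨T.one_mem, 1, by simp⟩
      mul_mem' := fun {a b} ⟨ha, c, hc⟩ ⟨hb, d, hd⟩ => ⟨T.mul_mem ha hb, d * c, by
        rw [map_mul, mul_assoc, hd, mul_smul_comm, hc, smul_smul]⟩
      inv_mem' := fun {a} ⟨ha, c, hc⟩ => ⟨T.inv_mem ha, c⁻¹, by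
        have hc0 : c ≠ 0 := fun h0 => by
          rw [h0, zero_smul] at hc
          apply h.ne
          rw [← one_mul π, ← map_one ρ, ← inv_mul_cancel a, map_mul, mul_assoc, hc, mul_zero]
        have h1 : c • (ρ a⁻¹ * π) = π := by
          rw [← mul_smul_comm, ← hc, ← mul_assoc, ← map_mul, inv_mul_cancel, map_one, one_mul]
        rw [← h1, smul_smul, inv_mul_cancel₀ hc0, one_smul, h1]⟩ }
  have hTsT : Ts ≤ T := fun t ht => ht.1
  have hTsN : ∀ g ∈ I, ∀ t ∈ Ts, g * t * g⁻¹ ∈ Ts := by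
    rintro g hg t ⟨ht, c, hc⟩
    refine ⟨h.normal g hg t ht, c, ?_⟩
    rw [map_mul, map_mul, mul_assoc, mul_assoc, h.comm _ (I.inv_mem hg), ← mul_assoc (ρ t), hc, smul_mul_assoc,
      mul_smul_comm, ← h.comm _ (I.inv_mem hg), ← mul_assoc, ← map_mul, mul_inv_cancel, map_one, one_mul]
  obtain ⟨e, heI, heT, heS, hep, hec⟩ : ∃ e ∈ I, e ∈ T ∧ e ∉ Ts ∧ e ^ p ∈ Ts ∧ ∀ g ∈ I, e⁻¹ * (g⁻¹ * e * g) ∈ Ts := by
    haveI : (Ts.subgroupOf I).Normal := ⟨fun a ha g => hTsN g g.2 a ha⟩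
    haveI : (T.subgroupOf I).Normal := ⟨fun a ha g => h.normal g g.2 a ha⟩
    haveI : ((T.subgroupOf I).map (QuotientGroup.mk' (Ts.subgroupOf I))).Normal :=
      Subgroup.Normal.map inferInstance _ (QuotientGroup.mk'_surjective _)
    obtain ⟨z, ⟨a, ha, rfl⟩, hzc, hzp, hz1⟩ := exists_central_pow (p := p) (↥I ⧸ Ts.subgroupOf I)
      ((hP.to_subgroup I).to_quotient _) ((T.subgroupOf I).map (QuotientGroup.mk' (Ts.subgroupOf I))) (by
        rw [Ne, Subgroup.map_eq_bot_iff, QuotientGroup.ker_mk']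
        intro hle
        apply hs
        intro t ht
        exact (hle (show (⟨t, h.le ht⟩ : I) ∈ T.subgroupOf I from ht)).2)
    refine ⟨a, a.2, ha, fun hh => hz1 ((QuotientGroup.eq_one_iff a).2 hh), ?_, fun g hg => ?_⟩
    · have : a ^ p ∈ Ts.subgroupOf I := by
        rw [← QuotientGroup.eq_one_iff, QuotientGroup.mk_pow]; exact hzp
      simpa [Subgroup.mem_subgroupOf] using this
    · have : a⁻¹ * (⟨g, hg⟩⁻¹ * a * ⟨g, hg⟩) ∈ Ts.subgroupOf I := by
        rw [← QuotientGroup.eq_one_iff]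
        have hc := Subgroup.mem_center_iff.1 hzc ((⟨g, hg⟩ : I) : ↥I ⧸ Ts.subgroupOf I)
        simp only [QuotientGroup.mk'_apply] at hc
        simp only [QuotientGroup.mk_mul, QuotientGroup.mk_inv]
        rw [mul_assoc (_⁻¹ : ↥I ⧸ Ts.subgroupOf I) (a : ↥I ⧸ Ts.subgroupOf I), ← hc, inv_mul_cancel_left,
          inv_mul_cancel]
      simpa [Subgroup.mem_subgroupOf] using this
  obtain ⟨-, d, hd⟩ := hep
  set E := ρ e * π with hE
  have hEne : E ≠ 0 := fun h0 => h.ne (by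
    rw [← one_mul π, ← map_one ρ, ← inv_mul_cancel e, map_mul, mul_assoc, ← hE, h0, mul_zero])
  have hd0 : d ≠ 0 := fun h0 => by
    rw [h0, zero_smul] at hd
    apply h.ne
    rw [← one_mul π, ← map_one ρ, ← inv_mul_cancel (e ^ p), map_mul, mul_assoc, hd, mul_zero]
  have hcex : ∀ g ∈ I, ∃ c : K, ρ (g⁻¹ * e * g) * π = c • E := by
    intro g hg
    obtain ⟨-, c, hc⟩ := hec g hg
    refine ⟨c, ?_⟩
    conv_lhs => rw [← mul_inv_cancel_left e (g⁻¹ * e * g), map_mul, mul_assoc, hc, mul_smul_comm]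
  choose! c hc using hcex
  have cuniq : ∀ g ∈ I, ∀ k : K, ρ (g⁻¹ * e * g) * π = k • E → c g = k := by
    intro g hg k hk
    have h1 : (c g - k) • E = 0 := by rw [sub_smul, ← hc g hg, ← hk, sub_self]
    exact sub_eq_zero.1 ((smul_eq_zero.1 h1).resolve_right hEne)
  have cmul : ∀ a ∈ I, ∀ b ∈ I, c (a * b) = c a * c b := by
    intro a ha b hb
    refine cuniq _ (I.mul_mem ha hb) _ ?_
    have h1 : ρ ((a * b)⁻¹ * e * (a * b)) * π = ρ b⁻¹ * (ρ (a⁻¹ * e * a) * π) * ρ b := by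
      rw [mul_assoc (ρ b⁻¹), mul_assoc (ρ (a⁻¹ * e * a)) π, ← h.comm b hb]
      simp only [← mul_assoc, ← map_mul]
      congr 2
      group
    rw [h1, hc a ha, mul_smul_comm, smul_mul_assoc, hE]
    have h2 : ρ b⁻¹ * (ρ e * π) * ρ b = ρ (b⁻¹ * e * b) * π := by
      rw [mul_assoc (ρ b⁻¹), mul_assoc (ρ e) π, ← h.comm b hb, ← mul_assoc, ← mul_assoc, ← map_mul, ← map_mul]
    rw [h2, hc b hb, smul_smul, hE]
  have cone : c 1 = 1 := cuniq 1 I.one_mem 1 (by simp [hE])
  have cpow : ∀ g ∈ I, ∀ k : ℕ, c (g ^ k) = c g ^ k := by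
    intro g hg k
    induction k with
    | zero => simpa using cone
    | succ k ihk => rw [pow_succ, cmul _ (I.pow_mem hg k) g hg, ihk, pow_succ]
  have hconjpow : ∀ g ∈ I, ∀ i : ℕ, ρ (g⁻¹ * e ^ i * g) * π = c g ^ i • (ρ (e ^ i) * π) := by
    intro g hg i
    induction i with
    | zero => simp
    | succ i ihi =>
      have h1 : g⁻¹ * e ^ (i + 1) * g = (g⁻¹ * e ^ i * g) * (g⁻¹ * e * g) := by rw [pow_succ]; group
      rw [h1, map_mul, mul_assoc, hc g hg, mul_smul_comm, hE, ← mul_assoc,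
        mul_assoc (ρ (g⁻¹ * e ^ i * g)), h.comm e heI, ← mul_assoc, ihi, smul_mul_assoc, smul_smul, mul_assoc,
        ← h.comm e heI, ← mul_assoc, ← map_mul, ← pow_succ, ← pow_succ']
  have cp : ∀ g ∈ I, c g ^ p = 1 := by
    intro g hg
    have h1 := hconjpow g hg p
    have h2 : ρ (g⁻¹ * e ^ p * g) * π = d • π := by
      rw [map_mul, mul_assoc, h.comm g hg, map_mul, ← mul_assoc, mul_assoc (ρ g⁻¹), hd, mul_smul_comm, smul_mul_assoc,
        mul_assoc, ← h.comm g hg, ← mul_assoc, ← map_mul, inv_mul_cancel, map_one, one_mul]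
    rw [h2, hd, smul_smul] at h1
    have h3 : (c g ^ p * d - d) • π = 0 := by rw [sub_smul, ← h1, sub_self]
    have h4 : (c g ^ p - 1) * d = 0 := by rw [sub_mul, one_mul]; exact (smul_eq_zero.1 h3).resolve_right h.ne
    exact sub_eq_zero.1 ((mul_eq_zero.1 h4).resolve_right hd0)
  obtain ⟨τ, hτT, hτc⟩ : ∃ t ∈ T, c t ≠ 1 := by
    by_contra hall
    push Not at hall
    refine heS ⟨heT, h.homog (ρ e) (Algebra.subset_adjoin ⟨e, heT, rfl⟩) fun t ht => ?_⟩
    have h1 := hc t (h.le ht)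
    rw [hall t ht, one_smul] at h1
    calc ρ t * (ρ e * π) = ρ t * (ρ (t⁻¹ * e * t) * π) := by rw [h1, hE]
      _ = ρ (e * t) * π := by rw [← mul_assoc, ← map_mul]; congr 2; group
      _ = _ := by rw [map_mul, mul_assoc, h.comm t (h.le ht), mul_assoc]
  have hτI : τ ∈ I := h.le hτT
  haveI : NeZero p := ⟨hp.out.ne_zero⟩
  set ζ := c τ with hζ
  have hprim : IsPrimitiveRoot ζ p := by
    rw [← orderOf_eq_prime (cp τ hτI) hτc]; exact IsPrimitiveRoot.orderOf ζ
  let C : Subgroup P :=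
    { carrier := {g | g ∈ I ∧ c g = 1}
      one_mem' := ⟨I.one_mem, cone⟩
      mul_mem' := fun {a b} ⟨ha, hca⟩ ⟨hb, hcb⟩ => ⟨I.mul_mem ha hb, by rw [cmul a ha b hb, hca, hcb, one_mul]⟩
      inv_mem' := fun {a} ⟨ha, hca⟩ => ⟨I.inv_mem ha, by
        have h1 := cmul a⁻¹ (I.inv_mem ha) a ha
        rw [inv_mul_cancel, cone, hca, mul_one] at h1
        exact h1.symm⟩ }
  have hCI : C ≤ I := fun g hg => hg.1
  have hdec : ∀ g ∈ I, ∃ k : ℕ, g * (τ ^ k)⁻¹ ∈ C := by
    intro g hg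
    obtain ⟨i, -, hi⟩ := hprim.eq_pow_of_pow_eq_one (cp g hg)
    have hτk := I.pow_mem hτI i
    refine ⟨i, I.mul_mem hg (I.inv_mem hτk), ?_⟩
    have h1 := cmul (g * (τ ^ i)⁻¹) (I.mul_mem hg (I.inv_mem hτk)) (τ ^ i) hτk
    rw [inv_mul_cancel_right, cpow τ hτI i, ← hi] at h1
    have hne : c τ ^ i ≠ 0 := pow_ne_zero _ (hprim.ne_zero hp.out.ne_zero)
    exact mul_right_cancel₀ hne (by rw [one_mul]; exact h1.symm)
  -- the projections
  let q : K → A := fun a => (p : K)⁻¹ • ∑ i ∈ Finset.range p, a ^ i • ρ (e ^ i)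
  have qmem : ∀ a, q a ∈ Algebra.adjoin K (ρ '' ((T ⊓ C : Subgroup P) : Set P)) := fun a =>
    Subalgebra.smul_mem _ (sum_mem fun i _ => Subalgebra.smul_mem _ (Algebra.subset_adjoin
      (Set.mem_image_of_mem ρ (show e ^ i ∈ T ⊓ C from ⟨T.pow_mem heT i, I.pow_mem heI i, by
        rw [cpow e heI i, cuniq e heI 1 (by simp [hE]), one_pow]⟩))) _) _
  have qcomm : ∀ a, q a * π = π * q a := fun a => by
    simp only [q, smul_mul_assoc, mul_smul_comm, Finset.sum_mul, Finset.mul_sum]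
    congr 1
    exact Finset.sum_congr rfl fun i _ => by rw [h.comm _ (I.pow_mem heI i)]
  have hqconj : ∀ g ∈ I, ∀ a, ρ g⁻¹ * (q a * π) * ρ g = q (c g * a) * π := by
    intro g hg a
    simp only [q, smul_mul_assoc, mul_smul_comm, Finset.sum_mul, Finset.mul_sum]
    congr 1
    refine Finset.sum_congr rfl fun i _ => ?_
    rw [mul_pow, mul_comm (c g ^ i), ← smul_smul, ← hconjpow g hg i, map_mul, map_mul]
    simp only [mul_assoc]
    rw [h.comm g hg]
  obtain ⟨μ, hμ⟩ := IsAlgClosed.exists_pow_nat_eq d hp.out.pos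
  have hμ0 : μ ≠ 0 := fun h0 => hd0 (by rw [← hμ, h0, zero_pow hp.out.ne_zero])
  set ν := μ⁻¹ with hν
  have hroot : ∀ k : ℕ, (ζ ^ k * ν) ^ p * d = 1 := by
    intro k
    rw [mul_pow, ← pow_mul, mul_comm k p, pow_mul, hprim.pow_eq_one, one_pow, one_mul, hν, inv_pow, hμ,
      inv_mul_cancel₀ hd0]
  have hqe : ∀ a : K, a ^ p * d = 1 → ρ e * (q a * π) = a⁻¹ • (q a * π) := by
    intro a ha
    have ha0 : a ≠ 0 := fun h0 => by rw [h0, zero_pow hp.out.ne_zero, zero_mul] at ha; exact zero_ne_one ha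
    have h1 : a • (ρ e * (q a * π)) = q a * π := by
      simp only [q, smul_mul_assoc, mul_smul_comm, Finset.sum_mul, Finset.mul_sum, smul_comm a]
      congr 1
      rw [Finset.smul_sum]
      have h2 := Finset.sum_range_succ' (fun i => a ^ i • (ρ (e ^ i) * π)) p
      rw [Finset.sum_range_succ, hd, smul_smul, ha, one_smul, pow_zero, pow_zero, one_smul, map_one, one_mul] at h2
      rw [(add_right_cancel h2 : _)]
      refine Finset.sum_congr rfl fun i _ => ?_
      rw [smul_smul, ← mul_assoc, ← map_mul, ← pow_succ', ← pow_succ']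
    rw [← h1, smul_smul, inv_mul_cancel₀ ha0, one_smul, h1]
  have hqmul : ∀ j k : ℕ, q (ζ ^ k * ν) * (q (ζ ^ j * ν) * π) =
      if ζ ^ k = ζ ^ j then q (ζ ^ j * ν) * π else 0 := by
    intro j k
    have ha := hroot j
    have hpow : ∀ i : ℕ, ρ (e ^ i) * (q (ζ ^ j * ν) * π) = ((ζ ^ j * ν)⁻¹) ^ i • (q (ζ ^ j * ν) * π) := by
      intro i
      induction i with
      | zero => simp
      | succ i ihi => rw [pow_succ', map_mul, mul_assoc, ihi, mul_smul_comm, hqe _ ha, smul_smul, ← pow_succ]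
    conv_lhs => arg 1; simp only [q]
    rw [smul_mul_assoc, Finset.sum_mul]
    rw [Finset.sum_congr rfl fun i _ => by rw [smul_mul_assoc, hpow i, smul_smul, ← mul_pow], ← Finset.sum_smul,
      smul_smul]
    split_ifs with hjk
    · rw [hjk, mul_inv_cancel₀ (fun h0 => by rw [h0, zero_pow hp.out.ne_zero, zero_mul] at ha; exact zero_ne_one ha)]
      simp [inv_mul_cancel₀ hpK]
    · have hz : ∑ i ∈ Finset.range p, (ζ ^ k * ν * (ζ ^ j * ν)⁻¹) ^ i = 0 := by
        set r := ζ ^ k * ν * (ζ ^ j * ν)⁻¹ with hr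
        have hν0 : ν ≠ 0 := inv_ne_zero hμ0
        have hζ0 : ζ ^ j ≠ 0 := pow_ne_zero _ (hprim.ne_zero hp.out.ne_zero)
        have hr1 : r ≠ 1 := by
          intro h1
          rw [hr, mul_inv, mul_mul_mul_comm, mul_inv_cancel₀ hν0, mul_one, mul_inv_eq_one₀ hζ0] at h1
          exact hjk h1
        have hrp : r ^ p = 1 := by
          have h1 : (ζ ^ k * ν) ^ p = (ζ ^ j * ν) ^ p := mul_right_cancel₀ hd0 ((hroot k).trans ha.symm)
          rw [hr, mul_pow, inv_pow, h1, mul_inv_cancel₀]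
          intro h0; rw [h0, zero_mul] at ha; exact zero_ne_one ha
        rw [geom_sum_eq hr1, hrp, sub_self, zero_div]
      rw [hz, mul_zero, zero_smul]
  set π' := q ν * π with hπ'
  have hππ' : π * π' = π' := by rw [hπ', ← mul_assoc, ← qcomm, mul_assoc, h.idem]
  have hπ'π : π' * π = π' := by rw [hπ', mul_assoc, h.idem]
  have hidem : π' * π' = π' := by
    rw [hπ', mul_assoc, ← mul_assoc π, ← qcomm, mul_assoc (q ν) π π, h.idem]
    have h1 := hqmul 0 0
    simpa using h1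
  have hτconj : ∀ j : ℕ, ρ (τ ^ j)⁻¹ * π' * ρ (τ ^ j) = q (ζ ^ j * ν) * π := by
    intro j; rw [hπ', hqconj _ (I.pow_mem hτI j), cpow τ hτI j]
  have hne : π' ≠ 0 := by
    intro h0
    apply h.ne
    have h1 : ∀ j, q (ζ ^ j * ν) * π = 0 := fun j => by rw [← hτconj j, h0, mul_zero, zero_mul]
    have h2 : ∑ j ∈ Finset.range p, q (ζ ^ j * ν) * π = π := by
      simp only [q, smul_mul_assoc, Finset.sum_mul]
      rw [← Finset.smul_sum, Finset.sum_comm]
      rw [Finset.sum_eq_single 0]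
      · simp [← Nat.cast_smul_eq_nsmul K, smul_smul, inv_mul_cancel₀ hpK]
      · intro i hi hi0
        rw [← Finset.sum_smul]
        have hζi : ζ ^ i ≠ 1 := hprim.pow_ne_one_of_pos_of_lt hi0 (Finset.mem_range.1 hi)
        have hz : ∑ j ∈ Finset.range p, (ζ ^ j * ν) ^ i = 0 := by
          rw [Finset.sum_congr rfl fun j _ => by rw [mul_pow, ← pow_mul, mul_comm j i, pow_mul], ← Finset.sum_mul,
            geom_sum_eq hζi, ← pow_mul, mul_comm i p, pow_mul, hprim.pow_eq_one, one_pow, sub_self, zero_div, zero_mul]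
        rw [hz, zero_smul]
      · simp [hp.out.ne_zero]
    rw [← h2]; exact Finset.sum_eq_zero fun j _ => h1 j
  have hcommC : ∀ g ∈ C, ρ g * π' = π' * ρ g := by
    intro g hg
    have h1 : ρ g⁻¹ * π' * ρ g = π' := by rw [hπ', hqconj g hg.1, hg.2, one_mul]
    conv_rhs => rw [← one_mul π', ← map_one ρ, ← mul_inv_cancel g, map_mul]
    conv_lhs => rw [← h1]
    simp only [mul_assoc]
  have hcard : Nat.card C < Nat.card I := by
    refine lt_of_le_of_ne (Subgroup.card_le_of_le hCI) fun heq => hτc ?_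
    have hmem : τ ∈ C := (Subgroup.eq_of_le_of_card_ge hCI heq.ge).symm ▸ hτI
    exact hmem.2
  refine ih _ hcard C (T ⊓ C) π' rfl ⟨hne, hidem, hcommC, inf_le_right, ?_, ?_, ?_, ?_, ?_⟩
  · intro g hg t ht
    exact ⟨h.normal g hg.1 t ht.1, C.mul_mem (C.mul_mem hg ht.2) (C.inv_mem hg)⟩
  · intro x hx hxT a ha hxa
    refine h.fpf x hx.1 (fun hh => hxT ⟨hh, hx⟩) a ?_ hxa
    rw [← ha, ← mul_assoc, hππ']
  · intro x hx hxT
    have hxT' : x ∉ T := fun hh => hxT ⟨hh, hx⟩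
    have h1 : ∀ i : ℕ, (∑ g ∈ elems I, c g ^ i • ρ (g⁻¹ * x * g)) * π = 0 := by
      intro i
      have hinv := h.inv (x * e ^ i) (I.mul_mem hx.1 (I.pow_mem heI i)) (fun hh => hxT' (by
        have := T.mul_mem hh (T.inv_mem (T.pow_mem heT i)); rwa [mul_inv_cancel_right] at this))
      rw [Finset.sum_mul] at hinv ⊢
      have h2 : ∀ g ∈ elems I, ρ (g⁻¹ * (x * e ^ i) * g) * π = c g ^ i • ρ (g⁻¹ * x * g) * π * ρ (e ^ i) := by
        intro g hg
        have hg' := mem_elems.1 hg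
        rw [show g⁻¹ * (x * e ^ i) * g = (g⁻¹ * x * g) * (g⁻¹ * e ^ i * g) by group, map_mul, mul_assoc,
          hconjpow g hg', h.comm _ (I.pow_mem heI i), mul_smul_comm, smul_mul_assoc, smul_mul_assoc, ← mul_assoc]
      rw [Finset.sum_congr rfl h2, ← Finset.sum_mul] at hinv
      have h3 := congrArg (· * ρ (e ^ i)⁻¹) hinv
      simp only [zero_mul] at h3
      rwa [mul_assoc _ (ρ (e ^ i)), ← map_mul, mul_inv_cancel, map_one, mul_one] at h3
    have h2 : ∑ i ∈ Finset.range p, (∑ g ∈ elems I, c g ^ i • ρ (g⁻¹ * x * g)) * π = 0 :=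
      Finset.sum_eq_zero fun i _ => h1 i
    rw [← Finset.sum_mul, Finset.sum_comm] at h2
    have h3 : ∀ g ∈ elems I, ∑ i ∈ Finset.range p, c g ^ i • ρ (g⁻¹ * x * g) =
        if c g = 1 then (p : K) • ρ (g⁻¹ * x * g) else 0 := by
      intro g hg
      rw [← Finset.sum_smul]
      split_ifs with hg1
      · simp [hg1]
      · rw [geom_sum_eq hg1, cp g (mem_elems.1 hg), sub_self, zero_div, zero_smul]
    rw [Finset.sum_congr rfl h3, Finset.sum_ite, Finset.sum_const_zero, add_zero, ← Finset.smul_sum, smul_mul_assoc,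
      smul_eq_zero, or_iff_right hpK] at h2
    have h4 : (elems I).filter (fun g => c g = 1) = elems C := by
      ext g
      simp only [Finset.mem_filter, mem_elems]
      rfl
    rw [h4] at h2
    rw [← hππ', ← mul_assoc, h2, zero_mul]
  · intro a ha hcomm
    have hmono : Algebra.adjoin K (ρ '' ((T ⊓ C : Subgroup P) : Set P)) ≤ Algebra.adjoin K (ρ '' (T : Set P)) :=
      Algebra.adjoin_mono (Set.image_mono inf_le_left)
    have hcap : ∀ y, y ∈ T → c y = 1 → y ∈ T ⊓ C := fun y hy hy1 => ⟨hy, h.le hy, hy1⟩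
    set b := ∑ j ∈ Finset.range p, ρ (τ ^ j) * (a * q ν) * ρ (τ ^ j)⁻¹ with hb
    have hbmem : b ∈ Algebra.adjoin K (ρ '' (T : Set P)) := sum_mem fun j _ =>
      mul_mem (mul_mem (Algebra.subset_adjoin ⟨_, T.pow_mem hτT j, rfl⟩) (mul_mem (hmono ha) (hmono (qmem ν))))
        (Algebra.subset_adjoin ⟨_, T.inv_mem (T.pow_mem hτT j), rfl⟩)
    have haπ' : a * π' = a * q ν * π := by rw [hπ', mul_assoc]
    have hterm : ∀ j, ρ (τ ^ j) * (a * q ν) * ρ (τ ^ j)⁻¹ * π = ρ (τ ^ j) * (a * π') * ρ (τ ^ j)⁻¹ := by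
      intro j
      rw [mul_assoc, h.comm _ (I.inv_mem (I.pow_mem hτI j)), ← mul_assoc, haπ', mul_assoc (ρ (τ ^ j)) _ π]
    have hbπ : b * π = ∑ j ∈ Finset.range p, ρ (τ ^ j) * (a * π') * ρ (τ ^ j)⁻¹ := by
      rw [hb, Finset.sum_mul]; exact Finset.sum_congr rfl fun j _ => hterm j
    have hbt : ∀ t ∈ T, ρ t * (b * π) = b * π * ρ t := by
      have hs' : ∀ s ∈ T, c s = 1 → ρ s * (b * π) = b * π * ρ s := by
        intro s hs hs1
        rw [hbπ, Finset.mul_sum, Finset.sum_mul]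
        refine Finset.sum_congr rfl fun j _ => ?_
        have hτj := I.pow_mem hτI j
        have hτjT := T.pow_mem hτT j
        have hmem : (τ ^ j)⁻¹ * s * τ ^ j ∈ T ⊓ C := hcap _ (T.mul_mem (T.mul_mem (T.inv_mem hτjT) hs) hτjT) (by
          have h1 := cmul ((τ ^ j)⁻¹) (I.inv_mem hτj) (τ ^ j) hτj
          rw [inv_mul_cancel, cone] at h1
          rw [cmul _ (I.mul_mem (I.inv_mem hτj) (h.le hs)) _ hτj, cmul _ (I.inv_mem hτj) _ (h.le hs), hs1, mul_one,
            ← h1])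
        have h1 := hcomm _ hmem
        calc ρ s * (ρ (τ ^ j) * (a * π') * ρ (τ ^ j)⁻¹)
            = ρ (τ ^ j) * (ρ ((τ ^ j)⁻¹ * s * τ ^ j) * (a * π')) * ρ (τ ^ j)⁻¹ := by
              simp only [← mul_assoc, ← map_mul]
              congr 3
              group
          _ = _ := by
              rw [h1]
              simp only [mul_assoc, ← map_mul]
              congr 5
              group
      have hτ' : ρ τ * (b * π) = b * π * ρ τ := by
        have h0 : ∀ j, ρ τ * (ρ (τ ^ j) * (a * π') * ρ (τ ^ j)⁻¹) =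
            ρ (τ ^ (j + 1)) * (a * π') * ρ (τ ^ (j + 1))⁻¹ * ρ τ := by
          intro j
          calc ρ τ * (ρ (τ ^ j) * (a * π') * ρ (τ ^ j)⁻¹) = ρ (τ * τ ^ j) * (a * π') * ρ (τ ^ j)⁻¹ := by
                simp only [← mul_assoc, ← map_mul]
            _ = ρ (τ ^ (j + 1)) * (a * π') * ρ ((τ ^ (j + 1))⁻¹ * τ) := by
                rw [← pow_succ']; congr 2; rw [pow_succ']; group
            _ = _ := by rw [map_mul]; simp only [hπ', mul_assoc]
        have hper : ρ (τ ^ p) * (a * π') * ρ (τ ^ p)⁻¹ = a * π' := by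
          rw [hcomm _ (hcap _ (T.pow_mem hτT p) (by rw [cpow τ hτI p, cp τ hτI])), mul_assoc (a * π'), ← map_mul,
            mul_inv_cancel, map_one, mul_one]
        rw [hbπ, Finset.mul_sum, Finset.sum_congr rfl fun j _ => h0 j, ← Finset.sum_mul]
        congr 1
        have h2 := Finset.sum_range_succ' (fun j => ρ (τ ^ j) * (a * π') * ρ (τ ^ j)⁻¹) p
        rw [Finset.sum_range_succ, hper] at h2
        simp only [pow_zero, inv_one, map_one, one_mul, mul_one] at h2
        exact (add_right_cancel h2).symm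
      intro t ht
      obtain ⟨k, hk⟩ := hdec t (h.le ht)
      have h1 : ρ (t * (τ ^ k)⁻¹) * (b * π) = b * π * ρ (t * (τ ^ k)⁻¹) :=
        hs' _ (T.mul_mem ht (T.inv_mem (T.pow_mem hτT k))) hk.2
      have h2 : ρ (τ ^ k) * (b * π) = b * π * ρ (τ ^ k) := by
        rw [map_pow]; exact (show Commute (ρ τ) (b * π) from hτ').pow_left k
      rw [show t = t * (τ ^ k)⁻¹ * τ ^ k by rw [inv_mul_cancel_right], map_mul, mul_assoc, h2, ← mul_assoc, h1,
        mul_assoc]
    obtain ⟨k, hk⟩ := h.homog b hbmem hbt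
    refine ⟨k, ?_⟩
    have h1 := congrArg (· * π') hk
    simp only [smul_mul_assoc, hππ'] at h1
    rw [hbπ, Finset.sum_mul, Finset.sum_eq_single 0] at h1
    · simpa [mul_assoc, hidem] using h1
    · intro j hj hj0
      have hτj := I.pow_mem hτI j
      have h2 : ρ (τ ^ j)⁻¹ * π' = q (ζ ^ j * ν) * π * ρ (τ ^ j)⁻¹ := by
        rw [← hτconj j, mul_assoc (ρ (τ ^ j)⁻¹ * π'), ← map_mul, mul_inv_cancel, map_one, mul_one]
      rw [mul_assoc, h2]
      have h3 : π' * (q (ζ ^ j * ν) * π) = 0 := by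
        have h4 := hqmul j 0
        rw [pow_zero, one_mul, if_neg (fun hh => hprim.pow_ne_one_of_pos_of_lt hj0 (Finset.mem_range.1 hj) hh.symm)] at h4
        rw [hπ', mul_assoc, ← mul_assoc π, ← qcomm, mul_assoc (q (ζ ^ j * ν)), h.idem]
        exact h4
      calc ρ (τ ^ j) * (a * π') * (q (ζ ^ j * ν) * π * ρ (τ ^ j)⁻¹)
          = ρ (τ ^ j) * a * (π' * (q (ζ ^ j * ν) * π)) * ρ (τ ^ j)⁻¹ := by simp only [mul_assoc]
        _ = 0 := by rw [h3, mul_zero, zero_mul]
    · simp [hp.out.ne_zero]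
  · intro g hg hle
    refine h.nc g hg.1 fun y hy => ?_
    obtain ⟨k, hk⟩ := hdec y hy
    have h1 : y * (τ ^ k)⁻¹ ∈ Subgroup.zpowers g ⊔ T :=
      (sup_le_sup_left (inf_le_left : T ⊓ C ≤ T) (Subgroup.zpowers g) : Subgroup.zpowers g ⊔ (T ⊓ C) ≤ _) (hle hk)
    have := mul_mem h1 (Subgroup.mem_sup_right (T.pow_mem hτT k) : τ ^ k ∈ Subgroup.zpowers g ⊔ T)
    rwa [inv_mul_cancel_right] at this

end Cfsg.Agent.Solv.CaminaFPF
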