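import Cfsg.Agent.Lib.Solv.CaminaFPF.Stab
import Cfsg.Agent.Lib.Solv.CaminaFPF.Descent
import Mathlib.Data.ZMod.Basic

/-!
# A Camina `p`-pair with noncyclic quotient has no module on which the outside is fixed-point-free
-/

set_option autoImplicit false
set_option linter.style.haveILetI false

open scoped BigOperators

namespace Cfsg.Agent.Solv.CaminaFPF

universe u v w

variable {K : Type v} [Field K] {P : Type u} [Group P] [Fintype P] {p : ℕ} [hp : Fact p.Prime]

theorem exists_commuting_pair (hp2 : p ≠ 2) (Q : Type u) [Group Q] [Finite Q] (hQ : IsPGroup p Q)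
    (hnc : ¬ IsCyclic Q) : ∃ a b : Q, Commute a b ∧ a ^ p = 1 ∧ b ^ p = 1 ∧ b ≠ 1 ∧
      a ∉ Subgroup.zpowers b := by
  haveI : Nontrivial Q := by
    by_contra h
    rw [not_nontrivial_iff_subsingleton] at h
    exact hnc inferInstance
  obtain ⟨z, -, hzc, hzp, hz1⟩ := exists_central_pow (p := p) Q hQ ⊤ top_ne_bot
  obtain ⟨H, hH, hHz⟩ : ∃ H : Subgroup Q, Nat.card H = p ∧ H ≠ Subgroup.zpowers z := by
    by_contra h
    push Not at h
    exact hnc ((S0016.result p hQ fun H L hH hL => (h H hH).trans (h L hL).symm).resolve_right fun hh => hp2 hh.1)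
  have hzo : orderOf z = p := orderOf_eq_prime hzp hz1
  have hsub : ¬ H ≤ Subgroup.zpowers z := fun hle =>
    hHz (Subgroup.eq_of_le_of_card_ge hle (by rw [hH, Nat.card_zpowers, hzo]))
  obtain ⟨a, haH, haz⟩ := SetLike.not_le_iff_exists.1 hsub
  refine ⟨a, z, (Subgroup.mem_center_iff.1 hzc a), ?_, hzp, hz1, haz⟩
  have h := congrArg Subtype.val (pow_card_eq_one' (x := (⟨a, haH⟩ : H)))
  simpa [hH] using h

theorem sum_image_eq_zero (hp2 : p ≠ 2) {A : Type w} [Ring A] [Algebra K A] (ρ : P →* A) (hP : IsPGroup p P)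
    (hpK : (p : K) ≠ 0) (T : Subgroup P) [T.Normal] (hnc : ∀ g : P, Subgroup.zpowers g ⊔ T ≠ ⊤)
    (hfpf : ∀ x, x ∉ T → ∀ a : A, ρ x * a = a → a = 0) : ∑ t ∈ elems T, ρ t = 0 := by
  classical
  set s := ∑ t ∈ elems T, ρ t with hs
  have hts : ∀ t ∈ T, ρ t * s = s := by
    intro t ht
    rw [hs, Finset.mul_sum]
    refine Finset.sum_bij (fun r _ => t * r) (fun r hr => mem_elems.2 (T.mul_mem ht (mem_elems.1 hr)))
      (fun r _ r' _ h => mul_left_cancel h) (fun r hr => ⟨t⁻¹ * r, mem_elems.2 (T.mul_mem (T.inv_mem ht)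
        (mem_elems.1 hr)), mul_inv_cancel_left t r⟩) (fun r _ => (map_mul ρ t r).symm)
  set q := QuotientGroup.mk' T
  have hcong : ∀ a b : P, q a = q b → ρ a * s = ρ b * s := by
    intro a b hab
    have hmem : a⁻¹ * b ∈ T := QuotientGroup.eq.1 hab
    conv_rhs => rw [← mul_inv_cancel_left a b, map_mul, mul_assoc, hts _ hmem]
  have hncyc : ¬ IsCyclic (P ⧸ T) := by
    rintro ⟨⟨g, hg⟩⟩
    obtain ⟨g', rfl⟩ := QuotientGroup.mk'_surjective T g
    refine hnc g' ((Subgroup.eq_top_iff' _).2 fun a => ?_)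
    obtain ⟨k, hk⟩ := hg (q a)
    have h1 : (g' ^ k)⁻¹ * a ∈ T := QuotientGroup.eq.1 ((map_zpow q g' k).trans hk)
    have := Subgroup.mul_mem_sup (Subgroup.zpow_mem _ (Subgroup.mem_zpowers g') k) h1
    rwa [mul_inv_cancel_left] at this
  obtain ⟨a, b, hab, hap, hbp, hb1, hanb⟩ := exists_commuting_pair hp2 (P ⧸ T) (hP.to_quotient T) hncyc
  obtain ⟨X, rfl⟩ := QuotientGroup.mk'_surjective T a
  obtain ⟨Y, rfl⟩ := QuotientGroup.mk'_surjective T b
  have hline : ∀ Z : P, q Z ≠ 1 → q Z ^ p = 1 → ∑ i ∈ Finset.range p, ρ (Z ^ i) * s = 0 := by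
    intro Z hZ hZp
    refine hfpf Z (fun h => hZ ((QuotientGroup.eq_one_iff Z).2 h)) _ ?_
    rw [Finset.mul_sum]
    have h1 : ∀ i, ρ Z * (ρ (Z ^ i) * s) = ρ (Z ^ (i + 1)) * s := fun i => by
      rw [← mul_assoc, ← map_mul, ← pow_succ']
    rw [Finset.sum_congr rfl fun i _ => h1 i]
    have h2 := Finset.sum_range_succ' (fun i => ρ (Z ^ i) * s) p
    rw [Finset.sum_range_succ, hcong (Z ^ p) 1 (by rw [map_pow, hZp, map_one]), pow_zero] at h2
    exact (add_right_cancel h2).symm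
  have hlineY := hline Y hb1 hbp
  have hlineX : ∀ j : ℕ, ∑ i ∈ Finset.range p, ρ (X ^ i) * (ρ (Y ^ (i * j)) * s) = 0 := by
    intro j
    have hne : q (X * Y ^ j) ≠ 1 := by
      intro h
      apply hanb
      rw [map_mul, map_pow, mul_eq_one_iff_eq_inv] at h
      rw [h]
      exact Subgroup.inv_mem _ (Subgroup.pow_mem _ (Subgroup.mem_zpowers _) j)
    have hp1 : q (X * Y ^ j) ^ p = 1 := by
      rw [map_mul, map_pow, (hab.pow_right j).mul_pow, hap, one_mul, ← pow_mul, mul_comm, pow_mul, hbp, one_pow]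
    rw [← hline _ hne hp1]
    refine Finset.sum_congr rfl fun i _ => ?_
    rw [← mul_assoc, ← map_mul]
    refine hcong _ _ ?_
    rw [map_mul, map_pow, map_pow, map_pow, map_mul, map_pow, (hab.pow_right j).mul_pow, ← pow_mul, mul_comm j]
  have hperm : ∀ i ∈ Finset.range p, i ≠ 0 → ∑ j ∈ Finset.range p, ρ (Y ^ (i * j)) * s = 0 := by
    intro i hi hi0
    rw [← hlineY]
    haveI : NeZero p := ⟨hp.out.ne_zero⟩
    have hip : ¬ p ∣ i := Nat.not_dvd_of_pos_of_lt (Nat.pos_of_ne_zero hi0) (Finset.mem_range.1 hi)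
    have hi' : (i : ZMod p) ≠ 0 := fun h => hip ((ZMod.natCast_eq_zero_iff i p).1 h)
    refine Finset.sum_bij' (fun j _ => ((i : ZMod p) * j).val) (fun k _ => ((i : ZMod p)⁻¹ * k).val)
      (fun j _ => Finset.mem_range.2 (ZMod.val_lt _)) (fun k _ => Finset.mem_range.2 (ZMod.val_lt _))
      (fun j hj => ?_) (fun k hk => ?_) (fun j _ => ?_)
    · rw [ZMod.natCast_zmod_val, inv_mul_cancel_left₀ hi', ZMod.val_natCast_of_lt (Finset.mem_range.1 hj)]
    · rw [ZMod.natCast_zmod_val, mul_inv_cancel_left₀ hi', ZMod.val_natCast_of_lt (Finset.mem_range.1 hk)]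
    · refine hcong _ _ ?_
      rw [map_pow, map_pow, ← Nat.cast_mul, ZMod.val_natCast]
      exact pow_eq_pow_mod _ hbp
  have h1 : ∑ j ∈ Finset.range p, ∑ i ∈ Finset.range p, ρ (X ^ i) * (ρ (Y ^ (i * j)) * s) = 0 :=
    Finset.sum_eq_zero fun j _ => hlineX j
  rw [Finset.sum_comm, Finset.sum_congr rfl (fun i _ => (Finset.mul_sum _ _ (ρ (X ^ i))).symm),
    Finset.sum_eq_single 0 (fun i hi hi0 => by rw [hperm i hi hi0, mul_zero])
      (fun h => absurd (Finset.mem_range.2 hp.out.pos) h)] at h1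
  simp only [pow_zero, zero_mul, map_one, one_mul, Finset.sum_const, Finset.card_range,
    ← Nat.cast_smul_eq_nsmul K] at h1
  exact (smul_eq_zero.1 h1).resolve_left hpK

theorem core [IsAlgClosed K] (hK : (Nat.card P : K) ≠ 0) (hp2 : p ≠ 2) (hP : IsPGroup p P) (T : Subgroup P)
    [T.Normal] (hcam : Camina.Pair T) (hnc : ∀ g : P, Subgroup.zpowers g ⊔ T ≠ ⊤) {A : Type w} [Ring A]
    [Algebra K A] [Nontrivial A] (ρ : P →* A) (hfpf : ∀ x, x ∉ T → ∀ a : A, ρ x * a = a → a = 0) : False := by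
  classical
  have hTtop : T ≠ ⊤ := fun h => hnc 1 (by rw [h, sup_top_eq])
  obtain ⟨k, hk⟩ := IsPGroup.iff_card.1 hP
  have hk0 : k ≠ 0 := by
    intro h0
    rw [h0, pow_zero] at hk
    haveI := (Nat.card_eq_one_iff_unique.1 hk).1
    exact hTtop (Subsingleton.elim _ _)
  have hpK : (p : K) ≠ 0 := fun h0 => hK (by rw [hk, Nat.cast_pow, h0, zero_pow hk0])
  have hidx : p < T.index := by
    obtain ⟨j, -, hj⟩ := (Nat.dvd_prime_pow hp.out).1 (hk ▸ T.index_dvd_card)
    rcases j with _ | _ | j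
    · exact absurd (Subgroup.index_eq_one.1 (by simpa using hj)) hTtop
    · exfalso
      have hc : Nat.card (P ⧸ T) = p := by rw [← Subgroup.index_eq_card, hj, pow_one]
      haveI := isCyclic_of_prime_card hc
      obtain ⟨g, hg⟩ := IsCyclic.exists_generator (α := P ⧸ T)
      obtain ⟨g', rfl⟩ := QuotientGroup.mk'_surjective T g
      refine hnc g' ((Subgroup.eq_top_iff' _).2 fun a => ?_)
      obtain ⟨i, hi⟩ := hg (QuotientGroup.mk' T a)
      have h1 : (g' ^ i)⁻¹ * a ∈ T := QuotientGroup.eq.1 ((map_zpow (QuotientGroup.mk' T) g' i).trans hi)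
      have := Subgroup.mul_mem_sup (Subgroup.zpow_mem _ (Subgroup.mem_zpowers g') i) h1
      rwa [mul_inv_cancel_left] at this
    · rw [hj]
      calc p = p ^ 1 := (pow_one p).symm
        _ < _ := Nat.pow_lt_pow_right hp.out.one_lt (by omega)
  have hs0 := sum_image_eq_zero hp2 ρ hP hpK T hnc hfpf
  -- the class averages
  have hS : ∀ x, x ∉ T → ∑ g : P, ρ (g⁻¹ * x * g) = 0 := by
    intro x hx
    have hconst : ∀ t ∈ T, ∑ g : P, ρ (g⁻¹ * (x * t) * g) = ∑ g : P, ρ (g⁻¹ * x * g) := by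
      intro t ht
      obtain ⟨k, hk⟩ := hcam x hx t ht
      refine Fintype.sum_equiv (Equiv.mulLeft k⁻¹) _ _ fun g => ?_
      congr 1
      simp only [Equiv.coe_mulLeft]
      rw [← hk]; group
    have h1 : ∑ t ∈ elems T, ∑ g : P, ρ (g⁻¹ * (x * t) * g) = 0 := by
      rw [Finset.sum_comm]
      refine Finset.sum_eq_zero fun g _ => ?_
      have h2 : ∀ t, ρ (g⁻¹ * (x * t) * g) = ρ (g⁻¹ * x) * ρ t * ρ g := fun t => by
        simp only [← map_mul, mul_assoc]
      rw [Finset.sum_congr rfl fun t _ => h2 t, ← Finset.sum_mul, ← Finset.mul_sum, hs0, mul_zero, zero_mul]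
    rw [Finset.sum_congr rfl fun t ht => hconst t (mem_elems.1 ht), Finset.sum_const, card_elems,
      ← Nat.cast_smul_eq_nsmul K] at h1
    refine (smul_eq_zero.1 h1).resolve_left fun h0 => hK ?_
    obtain ⟨i, hi⟩ := T.card_subgroup_dvd_card
    rw [hi, Nat.cast_mul, h0, zero_mul]
  set Φ : MonoidAlgebra K P →ₐ[K] A := MonoidAlgebra.lift K A P ρ with hΦ
  have hΦu : ∀ g : P, Φ (u g) = ρ g := fun g => MonoidAlgebra.lift_of ρ g
  have hlin : ∀ x, x ∉ T → ∀ a ∈ alg (K := K) T, ∑ g : P, ρ (g⁻¹ * x * g) * Φ (cj g⁻¹ a) = 0 := by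
    intro x hx a ha
    refine alg_induction (p := fun a => ∑ g : P, ρ (g⁻¹ * x * g) * Φ (cj g⁻¹ a) = 0) ha (fun t ht => ?_)
      (fun a b ha hb => ?_) (fun c a ha => ?_)
    · have hxt : x * t ∉ T := fun h => hx (by
        have := T.mul_mem h (T.inv_mem ht); rwa [mul_inv_cancel_right] at this)
      rw [← hS _ hxt]
      refine Finset.sum_congr rfl fun g _ => ?_
      rw [cj_u, hΦu, ← map_mul]
      congr 1
      group
    · simp only [map_add, mul_add, Finset.sum_add_distrib, ha, hb, add_zero]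
    · simp only [map_smul, mul_smul_comm, ← Finset.smul_sum, ha, smul_zero]
  obtain ⟨B, hB, hB1⟩ := exists_family hK T
  obtain ⟨e, heB, heΦ⟩ : ∃ e ∈ B, Φ e ≠ 0 := by
    by_contra h
    push Not at h
    apply one_ne_zero (α := A)
    rw [← map_one Φ, ← hB1, map_sum]
    exact Finset.sum_eq_zero h
  have he := (hB e heB).1
  set I := stab e with hI
  set π := Φ e with hπ
  have hnT : ∀ (g : P), ∀ s ∈ T, g * s * g⁻¹ ∈ T := fun g s hs => Subgroup.Normal.conj_mem inferInstance s hs g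
  have hnT' : ∀ (g : P), ∀ s ∈ T, g⁻¹ * s * g ∈ T := fun g s hs => by simpa using hnT g⁻¹ s hs
  have hTI : T ≤ I := fun t ht => by
    rw [hI, mem_stab, cj_apply, he.comm _ (u_mem_alg ht), mul_assoc, u_mul_inv, mul_one]
  have hout : ∀ g, g ∉ I → Φ (cj g⁻¹ e) * π = 0 := by
    intro g hg
    rw [hπ, ← map_mul, (he.cj (hnT g⁻¹) (hnT' g⁻¹)).mul_eq_zero he (fun h => hg (by
      have h1 : g⁻¹ ∈ I := h
      simpa using I.inv_mem h1)), map_zero]
  have hidem : π * π = π := by rw [hπ, ← map_mul, he.idem]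
  have hinI : ∀ g ∈ I, Φ (cj g⁻¹ e) = π := fun g hg => by
    rw [show cj g⁻¹ e = e from I.inv_mem hg]
  have hcomm : ∀ g ∈ I, ρ g * π = π * ρ g := by
    intro g hg
    rw [hπ, ← hΦu, ← map_mul, ← map_mul, u_mul_eq_cj_mul, show cj g e = e from hg]
  have hadj : ∀ a ∈ Algebra.adjoin K (ρ '' (T : Set P)), ∃ z ∈ alg (K := K) T, Φ z = a := by
    intro a ha
    have hle : Algebra.adjoin K (ρ '' (T : Set P)) ≤ (alg (K := K) T).map Φ :=
      Algebra.adjoin_le (by rintro _ ⟨t, ht, rfl⟩; exact ⟨u t, u_mem_alg ht, hΦu t⟩)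
    exact hle ha
  have hkill : ∀ z ∈ alg (K := K) T, z * e = z → z ≠ 0 → Φ z * π = 0 → False := by
    intro z hz hze hz0 h0
    refine heΦ ?_
    have h1 := he.map_eq_zero hK hz (by rwa [hze]) Φ.toRingHom (x := 1) (fun b _ => Commute.one_left _) (by
      rw [mul_one, hze]
      show Φ z = 0
      rw [← hze, map_mul, h0])
    rwa [mul_one] at h1
  refine Good.false hK hp2 hP (Nat.card I) I T π rfl ⟨heΦ, hidem, hcomm, hTI, fun g _ t ht => hnT g t ht, ?_, ?_, ?_, ?_⟩
  · intro x _ hxT a _ ha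
    exact hfpf x hxT a ha
  · intro x _ hxT
    have h := congrArg (· * π) (hlin x hxT e he.mem)
    simp only [Finset.sum_mul, zero_mul, mul_assoc] at h
    rw [← Finset.sum_subset (Finset.subset_univ (elems I))] at h
    · rw [Finset.sum_mul]
      refine (Finset.sum_congr rfl fun g hg => ?_).trans h
      rw [hinI g (mem_elems.1 hg), hidem, mul_assoc]
    · intro g _ hg
      rw [hout g (fun hh => hg (mem_elems.2 hh)), mul_zero]
  · intro a ha hc
    obtain ⟨z, hz, rfl⟩ := hadj a ha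
    have hze : z * e ∈ alg (K := K) T := mul_mem hz he.mem
    have hcen : ∀ b ∈ alg (K := K) T, b * (z * e) = z * e * b := by
      intro b hb
      refine alg_induction (p := fun b => b * (z * e) = z * e * b) hb (fun t ht => ?_) (fun x y hx hy => ?_)
        (fun c x hx => ?_)
      · by_contra hne
        have hw : (u t * (z * e) - z * e * u t) ∈ alg (K := K) T :=
          sub_mem (mul_mem (u_mem_alg ht) hze) (mul_mem hze (u_mem_alg ht))
        refine hkill _ hw ?_ (sub_ne_zero.2 hne) ?_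
        · rw [sub_mul, mul_assoc (u t), mul_assoc z e e, he.idem, mul_assoc (z * e), he.comm _ (u_mem_alg ht),
            ← mul_assoc (z * e) e, mul_assoc z e e, he.idem]
        · rw [map_sub, map_mul, map_mul, map_mul, map_mul, hΦu, ← hπ, hc t ht, sub_self, zero_mul]
      · rw [add_mul, mul_add, hx, hy]
      · rw [smul_mul_assoc, mul_smul_comm, hx]
    obtain ⟨c, hc'⟩ := he.scalar _ hze hcen
    refine ⟨c, ?_⟩
    rw [hπ, ← map_mul, ← map_smul, ← hc', mul_assoc, he.idem]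
  · intro g hg hle
    have hgT : g ∉ T := by
      intro hgT
      obtain ⟨y, hyT, hy⟩ := exists_fix_outside hK hP T hcam hidx _ T inferInstance le_rfl rfl e he
      exact hyT ((sup_le (Subgroup.zpowers_le.2 hgT) le_rfl : Subgroup.zpowers g ⊔ T ≤ T) (hle (show y ∈ I from hy)))
    obtain ⟨b, hb, hb0, hbe, hbfix, hbtw⟩ :=
      he.exists_intertwiner hK (g := g⁻¹) (hnT g⁻¹) (show cj g⁻¹ e = e from I.inv_mem hg)
    set Y := u g * b with hY
    have hgb : cj g b = b := by
      conv_lhs => rw [← hbfix]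
      rw [cj_cj_inv]
    have hgen : ∀ k ∈ I, cj k Y = Y := by
      have h1 : Subgroup.zpowers g ⊔ T ≤ stab Y := sup_le (Subgroup.zpowers_le.2 (by
        rw [mem_stab, hY, map_mul, cj_u, mul_inv_cancel_right, hgb])) fun t ht => by
          rw [mem_stab, cj_apply, hY]
          have h2 := hbtw (u t) (u_mem_alg ht)
          rw [cj_u, inv_inv] at h2
          have h3 : u t * (u g * b) = u g * b * u t := by
            rw [← mul_assoc, ← u_mul, show t * g = g * (g⁻¹ * t * g) by group, u_mul, mul_assoc, h2, mul_assoc]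
          rw [h3, mul_assoc, u_mul_inv, mul_one]
      exact fun k hk => h1 (hle hk)
    have h := congrArg (· * π) (hlin g hgT b hb)
    simp only [Finset.sum_mul, zero_mul] at h
    rw [← Finset.sum_subset (Finset.subset_univ (elems I))] at h
    · have hterm : ∀ k ∈ elems I, ρ (k⁻¹ * g * k) * Φ (cj k⁻¹ b) * π = ρ g * (Φ b * π) := by
        intro k hk
        have h1 : cj k⁻¹ Y = Y := hgen _ (I.inv_mem (mem_elems.1 hk))
        rw [hY, map_mul, cj_u, inv_inv] at h1
        have h2 := congrArg Φ h1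
        rw [map_mul, map_mul, hΦu, hΦu] at h2
        rw [h2, mul_assoc]
      rw [Finset.sum_congr rfl hterm, Finset.sum_const, card_elems, ← Nat.cast_smul_eq_nsmul K] at h
      have h4 : ρ g * (Φ b * π) = 0 := (smul_eq_zero.1 h).resolve_left (fun h0 => hK (by
        obtain ⟨i, hi⟩ := I.card_subgroup_dvd_card
        rw [hi, Nat.cast_mul, h0, zero_mul]))
      refine hkill b hb hbe hb0 ?_
      have h5 := congrArg (ρ g⁻¹ * ·) h4
      simpa [← mul_assoc, ← map_mul] using h5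
    · intro k _ hk
      have h1 : Φ (cj k⁻¹ b) = Φ (cj k⁻¹ b) * Φ (cj k⁻¹ e) := by rw [← map_mul, ← map_mul, hbe]
      rw [h1]
      simp only [mul_assoc]
      rw [hout k (fun hh => hk (mem_elems.2 hh)), mul_zero, mul_zero]

end Cfsg.Agent.Solv.CaminaFPF
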