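import Cfsg.Agent.Lib.Solv.CaminaFPF.Block
import Cfsg.Agent.Lib.Solv.CaminaPair
import Mathlib.GroupTheory.GroupAction.Quotient
import Mathlib.LinearAlgebra.Dimension.Constructions
import Mathlib.LinearAlgebra.FiniteDimensional.Lemmas
import Mathlib.GroupTheory.PGroup

/-!
# In a Camina `p`-pair the stabiliser of a block below `T` is not contained in `T`
-/

set_option autoImplicit false
set_option linter.style.haveILetI false

open scoped BigOperators

namespace Cfsg.Agent.Solv.CaminaFPF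

universe u v

variable {K : Type v} [Field K] {P : Type u} [Group P] {p : ℕ} [hp : Fact p.Prime]

theorem exists_chief_below [Finite P] (hP : IsPGroup p P) (S : Subgroup P) [S.Normal] (hS : S ≠ ⊥) :
    ∃ S₀ : Subgroup P, S₀.Normal ∧ S₀ ≤ S ∧ Nat.card S = p * Nat.card S₀ := by
  classical
  obtain ⟨S₀, ⟨hn, hlt⟩, hmax⟩ := (Set.toFinite {R : Subgroup P | R.Normal ∧ R < S}).exists_maximalFor
    (fun R : Subgroup P => Nat.card R) _ ⟨⊥, inferInstance, bot_lt_iff_ne_bot.2 hS⟩
  haveI := hn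
  refine ⟨S₀, hn, hlt.le, ?_⟩
  set q := QuotientGroup.mk' S₀
  haveI hSb : (S.map q).Normal := Subgroup.Normal.map inferInstance _ (QuotientGroup.mk'_surjective S₀)
  have hne : S.map q ≠ ⊥ := by
    rw [Ne, Subgroup.map_eq_bot_iff, QuotientGroup.ker_mk']
    exact fun h => hlt.not_ge h
  have hQ : IsPGroup p (P ⧸ S₀) := hP.to_quotient S₀
  obtain ⟨z, hz, hzc, hz1⟩ : ∃ z ∈ S.map q, z ∈ Subgroup.center (P ⧸ S₀) ∧ z ≠ 1 := by
    obtain ⟨k, hk⟩ := IsPGroup.iff_card.1 (hQ.to_subgroup (S.map q))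
    have hk0 : k ≠ 0 := fun h0 => hne (Subgroup.eq_bot_of_card_eq _ (by rw [hk, h0, pow_zero]))
    have hP' : IsPGroup p (ConjAct (P ⧸ S₀)) := hQ.of_equiv ConjAct.toConjAct
    obtain ⟨b, hb, hb1⟩ := hP'.exists_fixed_point_of_prime_dvd_card_of_fixed_point ↥(S.map q)
      (hk ▸ dvd_pow_self p hk0) (a := 1) (by intro g; exact smul_one g)
    refine ⟨b, b.2, Subgroup.mem_center_iff.2 fun g => ?_, fun h => hb1 (Subtype.ext h.symm)⟩
    have h := congrArg Subtype.val (hb (ConjAct.toConjAct g))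
    change g * (b : P ⧸ S₀) * g⁻¹ = b at h
    exact mul_inv_eq_iff_eq_mul.1 h
  obtain ⟨m, hm⟩ := IsPGroup.iff_orderOf.1 hQ z
  have hm0 : m ≠ 0 := fun h0 => hz1 (orderOf_eq_one_iff.1 (by rw [hm, h0, pow_zero]))
  set y := z ^ p ^ (m - 1) with hy
  have hyo : orderOf y = p := by
    rw [hy, orderOf_pow' z (pow_ne_zero _ hp.out.ne_zero), hm,
      Nat.gcd_eq_right (pow_dvd_pow p (Nat.sub_le m 1)), Nat.pow_div (Nat.sub_le m 1) hp.out.pos]
    rw [show m - (m - 1) = 1 by omega, pow_one]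
  set Z := Subgroup.zpowers y
  haveI : Z.Normal := ⟨fun a ha g => by
    have hc : a ∈ Subgroup.center (P ⧸ S₀) := (Subgroup.zpowers_le.2 (Subgroup.pow_mem _ hzc _) : Z ≤ _) ha
    rw [Subgroup.mem_center_iff.1 hc g, mul_inv_cancel_right]; exact ha⟩
  haveI : (Z.comap q).Normal := inferInstance
  have hZS : Z ≤ S.map q := Subgroup.zpowers_le.2 (Subgroup.pow_mem _ hz _)
  have h1 : Z.comap q ≤ S := by
    intro a ha
    obtain ⟨b, hb, hba⟩ := hZS ha
    have : b⁻¹ * a ∈ S₀ := QuotientGroup.eq.1 hba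
    have := S.mul_mem hb (hlt.le this)
    rwa [mul_inv_cancel_left] at this
  have h2 : S₀ < Z.comap q := by
    refine lt_of_le_of_ne (fun a ha => ?_) fun h => ?_
    · show q a ∈ Z
      rw [show q a = 1 from (QuotientGroup.eq_one_iff (N := S₀) a).2 ha]
      exact Z.one_mem
    · obtain ⟨a, ha⟩ := QuotientGroup.mk'_surjective S₀ y
      have : a ∈ S₀ := h ▸ (show q a ∈ Z by rw [ha]; exact Subgroup.mem_zpowers y)
      have h1' : y = 1 := ha.symm.trans ((QuotientGroup.eq_one_iff (N := S₀) a).2 this)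
      rw [h1', orderOf_one] at hyo
      exact hp.out.ne_one hyo.symm
  have h3 : Z.comap q = S := by
    by_contra h
    have hlt2 := hmax (j := Z.comap q) ⟨inferInstance, lt_of_le_of_ne h1 h⟩ (Subgroup.card_le_of_le h2.le)
    exact h2.ne (Subgroup.eq_of_le_of_card_ge h2.le hlt2)
  have h4 : (Z.comap q).index = Z.index := Subgroup.index_comap_of_surjective Z (QuotientGroup.mk'_surjective S₀)
  have h5 := (Z.comap q).card_mul_index
  have h6 := Z.card_mul_index
  rw [h3] at h5 h4
  rw [Nat.card_zpowers, hyo] at h6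
  have h7 := S₀.card_mul_index
  rw [Subgroup.index_eq_card, ← h6, ← h4, ← h5] at h7
  have hi : 0 < S.index := Nat.pos_of_ne_zero Subgroup.index_ne_zero_of_finite
  apply Nat.eq_of_mul_eq_mul_right hi
  rw [← h7]; ring

/-- The stabiliser of an element of the group algebra under conjugation. -/
noncomputable def stab (e : MonoidAlgebra K P) : Subgroup P where
  carrier := {g | cj g e = e}
  one_mem' := cj_one e
  mul_mem' := fun {a b} ha hb => by
    show cj (a * b) e = e
    rw [cj_mul, show cj b e = e from hb, show cj a e = e from ha]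
  inv_mem' := fun {a} ha => by
    show cj a⁻¹ e = e
    conv_lhs => rw [← show cj a e = e from ha]
    rw [cj_inv_cj]

theorem mem_stab {e : MonoidAlgebra K P} {g : P} : g ∈ stab e ↔ cj g e = e := Iff.rfl

theorem coeff_u_mul_u (a c w : P) (b : MonoidAlgebra K P) :
    (u a * b * u c).coeff (a * w * c) = b.coeff w := by
  classical
  have h1 : ∀ (y : MonoidAlgebra K P) (t : P), (y * MonoidAlgebra.single c (1 : K)).coeff (t * c) = y.coeff t := by
    intro y t
    rw [MonoidAlgebra.coeff_mul_single_eq_coeff_mul t (fun m _ => ⟨fun h => mul_right_cancel h, fun h => h ▸ rfl⟩),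
      mul_one]
  have h2 : ∀ (y : MonoidAlgebra K P) (t : P), (MonoidAlgebra.single a (1 : K) * y).coeff (a * t) = y.coeff t := by
    intro y t
    rw [MonoidAlgebra.coeff_single_mul_eq_mul_coeff t (fun m _ => ⟨fun h => mul_left_cancel h, fun h => h ▸ rfl⟩),
      one_mul]
  show (MonoidAlgebra.single a (1 : K) * b * MonoidAlgebra.single c (1 : K)).coeff (a * w * c) = _
  rw [h1, h2]

theorem coeff_eq_zero_of_not_mem {S : Subgroup P} {b : MonoidAlgebra K P} (hb : b ∈ alg S) :
    ∀ w ∉ S, b.coeff w = 0 := by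
  classical
  refine alg_induction (p := fun b => ∀ w ∉ S, b.coeff w = 0) hb (fun s hs w hw => ?_) (fun x y hx hy w hw => ?_)
    (fun c x hx w hw => ?_)
  · show (MonoidAlgebra.single s (1 : K)).coeff w = 0
    rw [MonoidAlgebra.coeff_single, Finsupp.single_eq_of_ne]
    exact fun h => hw (h ▸ hs)
  · rw [MonoidAlgebra.coeff_add, Finsupp.add_apply, hx w hw, hy w hw, add_zero]
  · rw [MonoidAlgebra.coeff_smul, Finsupp.smul_apply, hx w hw, smul_zero]

theorem card_filter_preimage {α β : Type*} [Finite α] [Finite β] (φ : α → β) (Q : β → Prop) (k : ℕ)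
    (hk : ∀ b, Q b → Nat.card {a // φ a = b} = k) :
    Nat.card {a // Q (φ a)} = Nat.card {b // Q b} * k := by
  classical
  haveI := Fintype.ofFinite {b // Q b}
  rw [Nat.card_congr (Equiv.sigmaSubtypeFiberEquivSubtype φ (p := fun a => Q (φ a)) (fun _ => Iff.rfl)).symm,
    Nat.card_sigma, Finset.sum_congr rfl (fun b _ => hk b.1 b.2), Finset.sum_const, Finset.card_univ,
    Nat.card_eq_fintype_card, smul_eq_mul]

/-- A copy of a subgroup, for a twisted action. -/
def Tw (S : Subgroup P) : Type u := ↥S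

instance [Finite P] (S : Subgroup P) : Finite (Tw S) := (inferInstance : Finite ↥S)

/-- The element of the group behind an element of the copy. -/
def Tw.val {S : Subgroup P} (w : Tw S) : P := (w : ↥S).1

theorem exists_fix_outside [IsAlgClosed K] [Finite P] (hK : (Nat.card P : K) ≠ 0) (hP : IsPGroup p P)
    (T : Subgroup P) [T.Normal] (hcam : Camina.Pair T) (hidx : p < T.index) :
    ∀ (n : ℕ) (S : Subgroup P), S.Normal → S ≤ T → Nat.card S = n → ∀ e : MonoidAlgebra K P, Blk S e →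
      ∃ g ∉ T, cj g e = e := by
  classical
  intro n
  induction n using Nat.strong_induction_on with
  | _ n ih =>
  intro S hSn hST hSn' e he
  subst hSn'
  haveI := hSn
  by_cases hS : S = ⊥
  · obtain ⟨g, hg⟩ : ∃ g, g ∉ T := by
      by_contra h
      push Not at h
      rw [Subgroup.index_eq_one.2 ((Subgroup.eq_top_iff' T).2 h)] at hidx
      exact absurd hp.out.one_lt (by omega)
    refine ⟨g, hg, ?_⟩
    refine alg_induction (p := fun a => cj g a = a) he.mem (fun s hs => ?_) (fun x y hx hy => ?_) (fun c x hx => ?_)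
    · rw [hS, Subgroup.mem_bot] at hs; rw [hs, u_one, map_one]
    · rw [map_add, hx, hy]
    · rw [map_smul, hx]
  obtain ⟨S₀, hS₀n, hS₀S, hcard⟩ := exists_chief_below hP S hS
  haveI := hS₀n
  have hS₀T : S₀ ≤ T := hS₀S.trans hST
  have hlt : Nat.card S₀ < Nat.card S := by
    rw [hcard]; exact lt_mul_of_one_lt_left Nat.card_pos hp.out.one_lt
  have hnS₀ : ∀ (g : P), ∀ s ∈ S₀, g * s * g⁻¹ ∈ S₀ := fun g s hs => hS₀n.conj_mem s hs g
  have hnS₀' : ∀ (g : P), ∀ s ∈ S₀, g⁻¹ * s * g ∈ S₀ := fun g s hs => by simpa using hS₀n.conj_mem s hs g⁻¹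
  have hnS : ∀ (g : P), ∀ s ∈ S, g * s * g⁻¹ ∈ S := fun g s hs => hSn.conj_mem s hs g
  have hnS' : ∀ (g : P), ∀ s ∈ S, g⁻¹ * s * g ∈ S := fun g s hs => by simpa using hSn.conj_mem s hs g⁻¹
  obtain ⟨B₀, hB₀, hB₀1⟩ := exists_family hK S₀
  obtain ⟨e₀, he₀B, he₀e⟩ : ∃ e₀ ∈ B₀, e₀ * e ≠ 0 := by
    by_contra h
    push Not at h
    apply he.ne
    calc e = (∑ c ∈ B₀, c) * e := by rw [hB₀1, one_mul]
      _ = 0 := by rw [Finset.sum_mul]; exact Finset.sum_eq_zero h
  have he₀ := (hB₀ e₀ he₀B).1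
  -- the orbit of `e₀` under `S`
  set O₀ : Finset (MonoidAlgebra K P) := (Set.finite_range fun s : S => cj (s : P) e₀).toFinset with hO₀
  set f := ∑ c ∈ O₀, c with hf
  have hO₀mem : ∀ c, c ∈ O₀ ↔ ∃ s ∈ S, cj s e₀ = c := by
    intro c
    simp [hO₀, Subtype.exists]
  have hO₀blk : ∀ c ∈ O₀, Blk S₀ c := by
    intro c hc
    obtain ⟨s, -, rfl⟩ := (hO₀mem c).1 hc
    exact he₀.cj (hnS₀ s) (hnS₀' s)
  have hcjf : ∀ g : P, cj g e₀ ∈ O₀ → cj g f = f := by
    intro g hg
    obtain ⟨s₁, hs₁, hgs⟩ := (hO₀mem _).1 hg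
    rw [hf, map_sum]
    refine Finset.sum_bij (fun c _ => cj g c) (fun c hc => ?_) (fun a _ b _ h => cj_injective g h)
      (fun c hc => ?_) (fun c _ => rfl)
    · obtain ⟨s, hs, rfl⟩ := (hO₀mem c).1 hc
      refine (hO₀mem _).2 ⟨g * s * g⁻¹ * s₁, S.mul_mem (hnS g s hs) hs₁, ?_⟩
      rw [cj_mul, hgs, ← cj_mul, ← cj_mul, inv_mul_cancel_right]
    · obtain ⟨s, hs, rfl⟩ := (hO₀mem c).1 hc
      refine ⟨cj (g⁻¹ * (s * s₁⁻¹) * g) e₀, (hO₀mem _).2 ⟨_, hnS' g _ (S.mul_mem hs (S.inv_mem hs₁)), rfl⟩, ?_⟩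
      rw [← cj_mul, show g * (g⁻¹ * (s * s₁⁻¹) * g) = s * s₁⁻¹ * g by group, cj_mul, ← hgs, ← cj_mul,
        inv_mul_cancel_right]
  have hfS : f ∈ alg S := by
    rw [hf]
    exact sum_mem fun c hc => alg_mono hS₀S (hO₀blk c hc).mem
  have hfc : ∀ a ∈ alg S, a * f = f * a := by
    intro a ha
    refine alg_induction (p := fun a => a * f = f * a) ha (fun s hs => ?_) (fun x y hx hy => ?_) (fun c x hx => ?_)
    · rw [u_mul_eq_cj_mul, hcjf s ((hO₀mem _).2 ⟨s, hs, rfl⟩)]
    · rw [add_mul, mul_add, hx, hy]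
    · rw [smul_mul_assoc, mul_smul_comm, hx]
  have hcf : ∀ c ∈ O₀, f * c = c := by
    intro c hc
    rw [hf, Finset.sum_mul, Finset.sum_eq_single c (fun d hd hdc => (hO₀blk d hd).mul_eq_zero (hO₀blk c hc) hdc)
      (fun h => absurd hc h), (hO₀blk c hc).idem]
  have hff : f * f = f := by
    conv_lhs => arg 2; rw [hf]
    rw [Finset.mul_sum, Finset.sum_congr rfl hcf]
  have he₀O : e₀ ∈ O₀ := (hO₀mem _).2 ⟨1, S.one_mem, cj_one _⟩
  have hfe : f * e = e := by
    rcases he.mul_cases hfS hff hfc with h | h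
    · exact h
    · refine absurd ?_ he₀e
      rw [← hcf e₀ he₀O, ← hfc e₀ (alg_mono hS₀S he₀.mem), mul_assoc, h, mul_zero]
  -- the blocks of `S` below `f`
  obtain ⟨B, hB, hB1⟩ := exists_family hK S
  set X := B.filter fun c => f * c = c with hX
  have hblkX : ∀ c, Blk S c → f * c = c → c ∈ X := by
    intro c hc hfc'
    obtain ⟨d, hd, hne⟩ : ∃ d ∈ B, c * d ≠ 0 := by
      by_contra h
      push Not at h
      apply hc.ne
      calc c = c * ∑ d ∈ B, d := by rw [hB1, mul_one]
        _ = 0 := by rw [Finset.mul_sum]; exact Finset.sum_eq_zero h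
    have hcd := hc.eq_of_mul_ne_zero (hB d hd).1 hne
    exact Finset.mem_filter.2 ⟨hcd ▸ hd, hfc'⟩
  have hXp : X.card ≤ p := by
    haveI := Fintype.ofFinite P
    haveI : Module.Finite K (MonoidAlgebra K P) := inferInstance
    set V₀ := Submodule.map (LinearMap.mulRight K f) (Subalgebra.toSubmodule (alg (K := K) S₀)) with hV₀
    set V₁ := Submodule.map (LinearMap.mulRight K f) (Subalgebra.toSubmodule (alg (K := K) S)) with hV₁
    let R := ↥S ⧸ S₀.subgroupOf S
    haveI : Fintype R := Fintype.ofFinite R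
    have hR : Fintype.card R = p := by
      rw [← Nat.card_eq_fintype_card]
      show (S₀.subgroupOf S).index = p
      have h := (S₀.subgroupOf S).card_mul_index
      rw [Nat.card_congr (Subgroup.subgroupOfEquivOfLe hS₀S).toEquiv, hcard, mul_comm p] at h
      exact Nat.eq_of_mul_eq_mul_left Nat.card_pos h
    let Ψ : (R → V₀) →ₗ[K] MonoidAlgebra K P :=
      ∑ r : R, LinearMap.mulLeft K (u ((r.out : S) : P)) ∘ₗ V₀.subtype ∘ₗ LinearMap.proj r
    have hle : V₁ ≤ LinearMap.range Ψ := by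
      rintro _ ⟨a, ha, rfl⟩
      refine alg_induction (p := fun a => a * f ∈ LinearMap.range Ψ) ha (fun s hs => ?_) (fun x y hx hy => ?_)
        (fun c x hx => ?_)
      · set r : R := QuotientGroup.mk ⟨s, hs⟩
        obtain ⟨s₀, hs₀⟩ : ∃ s₀ ∈ S₀, s = ((r.out : S) : P) * s₀ := by
          refine ⟨((r.out : S) : P)⁻¹ * s, ?_, by rw [mul_inv_cancel_left]⟩
          have h : (QuotientGroup.mk r.out : R) = QuotientGroup.mk ⟨s, hs⟩ := Quotient.out_eq r
          rw [QuotientGroup.eq, Subgroup.mem_subgroupOf] at h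
          exact h
        refine ⟨Pi.single r ⟨u s₀ * f, ⟨u s₀, u_mem_alg hs₀.1, rfl⟩⟩, ?_⟩
        simp only [Ψ, LinearMap.coe_sum, Finset.sum_apply, LinearMap.comp_apply, LinearMap.proj_apply]
        rw [Finset.sum_eq_single r (fun b _ hb => by simp [Pi.single_eq_of_ne hb]) (by simp)]
        simp only [Pi.single_eq_same, Submodule.coe_subtype, LinearMap.mulLeft_apply]
        rw [← mul_assoc, ← u_mul, ← hs₀.2]
      · rw [add_mul]; exact add_mem hx hy
      · rw [smul_mul_assoc]; exact Submodule.smul_mem _ c hx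
    let Θ : (X → V₀) →ₗ[K] MonoidAlgebra K P :=
      ∑ c : X, LinearMap.mulRight K (c : MonoidAlgebra K P) ∘ₗ V₀.subtype ∘ₗ LinearMap.proj c
    have hΘap : ∀ v, Θ v = ∑ c : X, (v c : MonoidAlgebra K P) * (c : MonoidAlgebra K P) := by
      intro v; simp [Θ]
    have hrange : LinearMap.range Θ ≤ V₁ := by
      rintro _ ⟨v, rfl⟩
      rw [hΘap]
      refine sum_mem fun c _ => ?_
      obtain ⟨a, ha, hav⟩ := (v c).2
      obtain ⟨hcB, hfc'⟩ := Finset.mem_filter.1 c.2
      refine ⟨a * (c : MonoidAlgebra K P), (alg (K := K) S).mul_mem (alg_mono hS₀S ha) (hB _ hcB).1.mem, ?_⟩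
      rw [← hav]
      simp only [LinearMap.mulRight_apply]
      rw [mul_assoc, mul_assoc, hfc _ (hB _ hcB).1.mem]
    have hker : LinearMap.ker Θ = ⊥ := by
      rw [LinearMap.ker_eq_bot']
      intro v hv
      funext c
      obtain ⟨hcB, hfc'⟩ := Finset.mem_filter.1 c.2
      have h0 : (v c : MonoidAlgebra K P) * (c : MonoidAlgebra K P) = 0 := by
        have h := congrArg (· * (c : MonoidAlgebra K P)) ((hΘap v).symm.trans hv)
        simp only [zero_mul, Finset.sum_mul, mul_assoc] at h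
        rw [Finset.sum_eq_single c (fun d _ hdc => by
          rw [(hB _ (Finset.mem_filter.1 d.2).1).1.mul_eq_zero (hB _ hcB).1 fun h => hdc (Subtype.ext h),
            mul_zero]) (by simp), (hB _ hcB).1.idem] at h
        exact h
      obtain ⟨a, ha, hav⟩ := (v c).2
      simp only [LinearMap.mulRight_apply] at hav
      refine Subtype.ext ?_
      show (v c : MonoidAlgebra K P) = 0
      rw [← hav, hf, Finset.mul_sum]
      refine Finset.sum_eq_zero fun d hd => ?_
      by_contra hne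
      have hzero : a * d * (c : MonoidAlgebra K P) = 0 := by
        have h1 : d * ((v c : MonoidAlgebra K P) * (c : MonoidAlgebra K P)) = 0 := by rw [h0, mul_zero]
        rw [← hav, ← mul_assoc, ← mul_assoc, ← (hO₀blk d hd).comm a ha, mul_assoc a d f,
          hfc d (alg_mono hS₀S (hO₀blk d hd).mem), hcf d hd] at h1
        exact h1
      have hdc := (hO₀blk d hd).map_eq_zero hK ha hne (RingHom.id (MonoidAlgebra K P))
        (x := (c : MonoidAlgebra K P)) (fun b hb => ((hB _ hcB).1.comm b (alg_mono hS₀S hb)).symm) hzero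
      obtain ⟨s, hs, rfl⟩ := (hO₀mem d).1 hd
      have hall : ∀ d' ∈ O₀, d' * (c : MonoidAlgebra K P) = 0 := by
        intro d' hd'
        obtain ⟨s', hs', rfl⟩ := (hO₀mem d').1 hd'
        have hcc : ∀ r ∈ S, cj r (c : MonoidAlgebra K P) = c := fun r hr => by
          rw [cj_apply, (hB _ hcB).1.comm _ (u_mem_alg hr), mul_assoc, u_mul_inv, mul_one]
        have h := congrArg (cj (s' * s⁻¹)) (show cj s e₀ * (c : MonoidAlgebra K P) = 0 from hdc)
        rwa [map_mul, map_zero, hcc _ (S.mul_mem hs' (S.inv_mem hs)), ← cj_mul, inv_mul_cancel_right] at h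
      exact (hB _ hcB).1.ne (by rw [← hfc', hf, Finset.sum_mul]; exact Finset.sum_eq_zero hall)
    haveI : Nontrivial V₀ := by
      refine ⟨⟨⟨e₀, e₀, he₀.mem, ?_⟩, 0, fun h => he₀.ne (congrArg Subtype.val h)⟩⟩
      simp only [LinearMap.mulRight_apply]
      rw [hfc e₀ (alg_mono hS₀S he₀.mem), hcf e₀ he₀O]
    have h1 : Module.finrank K V₁ ≤ p * Module.finrank K V₀ := by
      refine (Submodule.finrank_mono hle).trans ((LinearMap.finrank_range_le Ψ).trans ?_)
      rw [Module.finrank_pi_fintype, Finset.sum_const, Finset.card_univ, hR, smul_eq_mul]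
    have h2 : X.card * Module.finrank K V₀ ≤ Module.finrank K V₁ := by
      refine le_trans (le_of_eq ?_) (Submodule.finrank_mono hrange)
      rw [LinearMap.finrank_range_of_inj (LinearMap.ker_eq_bot.1 hker), Module.finrank_pi_fintype, Finset.sum_const,
        Finset.card_univ, Fintype.card_coe, smul_eq_mul]
    exact Nat.le_of_mul_le_mul_right (h2.trans h1) Module.finrank_pos
  -- the stabiliser of `e₀`
  obtain ⟨x, hxT, hx⟩ := ih _ hlt S₀ hS₀n hS₀T rfl e₀ he₀
  set I₀ := stab e₀ with hI₀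
  by_contra hcon
  push Not at hcon
  have hIe : stab e ≤ T := fun g hg => by_contra fun h => hcon g h hg
  have hJle : (T.subgroupOf I₀).index ≤ p := by
    let φ : ↥I₀ ⧸ (stab e).subgroupOf I₀ → X := Quotient.lift
      (fun g : I₀ => (⟨cj (g : P) e, hblkX _ (he.cj (hnS g) (hnS' g)) (by
        conv_lhs => arg 1; rw [← hcjf (g : P) (by rw [show cj (g : P) e₀ = e₀ from g.2]; exact he₀O)]
        rw [← map_mul, hfe])⟩ : X))
      (fun a b hab => by
        have hab := QuotientGroup.leftRel_apply.1 hab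
        rw [Subgroup.mem_subgroupOf] at hab
        refine Subtype.ext ?_
        show cj (a : P) e = cj (b : P) e
        calc cj (a : P) e = cj (a : P) (cj ((a : P)⁻¹ * b) e) := by rw [show cj ((a : P)⁻¹ * b) e = e from hab]
          _ = _ := by rw [← cj_mul, mul_inv_cancel_left])
    have hinj : Function.Injective φ := by
      intro a b
      induction a using Quotient.inductionOn with | h a =>
      induction b using Quotient.inductionOn with | h b =>
      intro h
      refine QuotientGroup.eq.2 ?_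
      have h' : cj (a : P) e = cj (b : P) e := congrArg Subtype.val h
      rw [Subgroup.mem_subgroupOf, mem_stab]
      push_cast
      rw [cj_mul, ← h', cj_inv_cj]
    have h1 := Nat.card_le_card_of_injective φ hinj
    rw [← Subgroup.index_eq_card, Nat.card_eq_fintype_card, Fintype.card_coe] at h1
    refine le_trans ?_ (h1.trans hXp)
    exact Nat.le_of_dvd (Nat.pos_of_ne_zero Subgroup.index_ne_zero_of_finite)
      (Subgroup.index_dvd_of_le (Subgroup.comap_mono hIe))
  have hJ : (T.subgroupOf I₀).index = p := by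
    obtain ⟨k, hk⟩ := (Nat.dvd_prime_pow hp.out).1 (((T.subgroupOf I₀).index_dvd_card).trans
      (dvd_of_eq (IsPGroup.iff_card.1 (hP.to_subgroup I₀)).choose_spec))
    have hne : (T.subgroupOf I₀).index ≠ 1 := fun h => by
      rw [Subgroup.index_eq_one, Subgroup.subgroupOf_eq_top] at h
      exact hxT (h hx)
    rw [hk.2] at hne hJle ⊢
    rcases k with _ | _ | k
    · simp at hne
    · simp
    · exfalso
      have : p ^ 2 ≤ p ^ (k + 1 + 1) := Nat.pow_le_pow_right hp.out.pos (by omega)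
      nlinarith [hp.out.one_lt]
  set q := QuotientGroup.mk' T
  set C := Subgroup.centralizer ({q x} : Set (P ⧸ T)) with hC
  set Px := C.comap q with hPx
  have hIPx : I₀ ≤ Px := by
    intro g hg
    have hcI : Nat.card (I₀.map q) = p := by
      have h := (q.comp I₀.subtype).ker.index_eq_card
      rw [Nat.card_congr (QuotientGroup.quotientKerEquivRange _).toEquiv, MonoidHom.range_comp,
        Subgroup.range_subtype] at h
      rw [← h, ← hJ]
      congr 1
      ext a
      rw [MonoidHom.mem_ker, Subgroup.mem_subgroupOf]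
      exact QuotientGroup.eq_one_iff _
    haveI := isCyclic_of_prime_card hcI
    letI := IsCyclic.commGroup (α := I₀.map q)
    show q g ∈ C
    rw [hC, Subgroup.mem_centralizer_singleton_iff]
    exact congrArg Subtype.val (mul_comm (⟨q g, g, hg, rfl⟩ : I₀.map q) ⟨q x, x, hx, rfl⟩)
  have hTPx : T ≤ Px := fun t ht => by
    show q t ∈ C
    rw [show q t = 1 from (QuotientGroup.eq_one_iff t).2 ht]; exact C.one_mem
  have hPxmem : ∀ g : P, g ∈ Px ↔ x⁻¹ * (g⁻¹ * x * g) ∈ T := by
    intro g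
    show q g ∈ C ↔ _
    rw [hC, Subgroup.mem_centralizer_singleton_iff, ← QuotientGroup.eq_one_iff (N := T)]
    show q g * q x = q x * q g ↔ q (x⁻¹ * (g⁻¹ * x * g)) = 1
    simp only [map_mul, map_inv]
    constructor
    · intro h
      rw [mul_assoc (q g)⁻¹, ← h, inv_mul_cancel_left, inv_mul_cancel]
    · intro h
      have h' := congrArg (fun z => q g * (q x * z)) h
      simpa [mul_assoc] using h'.symm
  -- the conjugates of `x`
  let cl : Px → T := fun g => ⟨x⁻¹ * ((g : P)⁻¹ * x * g), (hPxmem g).1 g.2⟩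
  have hclsurj : ∀ t : T, ∃ g : Px, cl g = t := by
    intro t
    obtain ⟨g, hg⟩ := hcam x hxT t t.2
    refine ⟨⟨g⁻¹, (hPxmem _).2 (by rw [inv_inv, hg, inv_mul_cancel_left]; exact t.2)⟩, Subtype.ext ?_⟩
    show x⁻¹ * (g⁻¹⁻¹ * x * g⁻¹) = t
    rw [inv_inv, hg, inv_mul_cancel_left]
  have hclfib : ∀ t : T, Nat.card {g : Px // cl g = t} = Nat.card (Subgroup.centralizer ({x} : Set P)) := by
    intro t
    obtain ⟨g₀, hg₀⟩ := hclsurj t
    have hCle : Subgroup.centralizer ({x} : Set P) ≤ Px := fun c hc => (hPxmem c).2 (by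
      rw [mul_assoc c⁻¹, ← Subgroup.mem_centralizer_singleton_iff.1 hc, inv_mul_cancel_left, inv_mul_cancel]
      exact T.one_mem)
    refine Nat.card_congr
      { toFun := fun g => ⟨(g.1 : P) * (g₀ : P)⁻¹, ?_⟩
        invFun := fun c => ⟨⟨c.1 * g₀, Px.mul_mem (hCle c.2) g₀.2⟩, ?_⟩
        left_inv := fun g => by ext; simp
        right_inv := fun c => by ext; simp }
    · have h : x⁻¹ * ((g.1 : P)⁻¹ * x * g.1) = x⁻¹ * ((g₀ : P)⁻¹ * x * g₀) :=
        congrArg Subtype.val (g.2.trans hg₀.symm)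
      rw [Subgroup.mem_centralizer_singleton_iff]
      have h' := congrArg (fun z => (g.1 : P) * (x * z) * (g₀ : P)⁻¹) h
      simpa [mul_assoc] using h'.symm
    · have hc := Subgroup.mem_centralizer_singleton_iff.1 c.2
      refine (Subtype.ext ?_ : cl _ = cl g₀).trans hg₀
      show x⁻¹ * (((c : P) * g₀)⁻¹ * x * ((c : P) * g₀)) = x⁻¹ * ((g₀ : P)⁻¹ * x * g₀)
      congr 1
      calc ((c : P) * g₀)⁻¹ * x * ((c : P) * g₀) = (g₀ : P)⁻¹ * ((c : P)⁻¹ * (x * c)) * g₀ := by group
        _ = _ := by rw [← hc]; group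
  -- the orbit of `e₀`
  let orb : Px → MonoidAlgebra K P := fun g => cj (g : P) e₀
  set Ox : Finset (MonoidAlgebra K P) := (Set.finite_range orb).toFinset with hOx
  set F := Ox.filter fun c => cj x c = c with hF
  have hM : Nat.card {g : Px // x * (x⁻¹ * ((g : P)⁻¹ * x * g)) ∈ I₀} = F.card * Nat.card I₀ := by
    let φ : Px → Ox := fun g => ⟨orb g, by simp [hOx]⟩
    have e1 : {g : Px // x * (x⁻¹ * ((g : P)⁻¹ * x * g)) ∈ I₀} ≃ {g : Px // cj x (φ g : MonoidAlgebra K P) = φ g} :=
      Equiv.subtypeEquivRight fun g => by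
        show _ ↔ cj x (cj (g : P) e₀) = cj (g : P) e₀
        rw [mul_inv_cancel_left, hI₀, mem_stab, mul_assoc, cj_mul, cj_mul]
        constructor
        · intro h
          have h' := congrArg (cj (g : P)) h
          rwa [cj_cj_inv] at h'
        · intro h; rw [h, cj_inv_cj]
    rw [Nat.card_congr e1, card_filter_preimage φ (fun c : Ox => cj x (c : MonoidAlgebra K P) = c) (Nat.card I₀)
      (fun c _ => ?_)]
    · congr 1
      rw [← Fintype.card_coe F, ← Nat.card_eq_fintype_card]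
      exact Nat.card_congr ((Equiv.subtypeSubtypeEquivSubtypeInter (· ∈ Ox) fun c => cj x c = c).trans
        (Equiv.subtypeEquivRight fun c => by simp [hF]))
    · obtain ⟨g₀, hg₀⟩ := (Set.finite_range orb).mem_toFinset.1 c.2
      refine Nat.card_congr
        { toFun := fun g => ⟨(g₀ : P)⁻¹ * (g.1 : P), ?_⟩
          invFun := fun i => ⟨⟨(g₀ : P) * i.1, Px.mul_mem g₀.2 (hIPx i.2)⟩, ?_⟩
          left_inv := fun g => by ext; simp
          right_inv := fun i => by ext; simp }
      · have h : cj (g.1 : P) e₀ = cj (g₀ : P) e₀ := (congrArg Subtype.val g.2).trans hg₀.symm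
        rw [hI₀, mem_stab, cj_mul, h, cj_inv_cj]
      · refine Subtype.ext ?_
        show cj ((g₀ : P) * i.1) e₀ = c
        rw [cj_mul, show cj (i.1 : P) e₀ = e₀ from i.2]; exact hg₀
  have hM' : Nat.card {g : Px // x * (x⁻¹ * ((g : P)⁻¹ * x * g)) ∈ I₀} =
      Nat.card (T.subgroupOf I₀) * Nat.card (Subgroup.centralizer ({x} : Set P)) := by
    rw [card_filter_preimage cl (fun t : T => x * (t : P) ∈ I₀) _ (fun t _ => hclfib t)]
    congr 1
    refine Nat.card_congr ((Equiv.subtypeEquivRight (q := fun t : T => (t : P) ∈ I₀) fun t : T => ?_).trans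
      { toFun := fun t => ⟨⟨(t.1 : P), t.2⟩, t.1.2⟩
        invFun := fun t => ⟨⟨(t.1 : P), t.2⟩, t.1.2⟩
        left_inv := fun t => rfl
        right_inv := fun t => rfl })
    exact I₀.mul_mem_cancel_left hx
  have hCF : p * F.card = Nat.card (Subgroup.centralizer ({x} : Set P)) := by
    have h := hM.symm.trans hM'
    rw [← (T.subgroupOf I₀).card_mul_index, hJ] at h
    apply Nat.eq_of_mul_eq_mul_left (Nat.card_pos (α := T.subgroupOf I₀))
    rw [← h]; ring
  -- the principal block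
  set e₁ : MonoidAlgebra K P := (Nat.card S₀ : K)⁻¹ • ∑ᶠ s : S₀, u (s : P) with he₁
  haveI := Fintype.ofFinite S₀
  have hS₀K : (Nat.card S₀ : K) ≠ 0 := fun h => hK (by
    obtain ⟨k, hk⟩ := S₀.card_subgroup_dvd_card
    rw [hk, Nat.cast_mul, h, zero_mul])
  rw [finsum_eq_sum_of_fintype] at he₁
  have hu₁ : ∀ s ∈ S₀, u s * e₁ = e₁ ∧ e₁ * u s = e₁ := by
    intro s hs
    constructor
    · rw [he₁, mul_smul_comm, Finset.mul_sum]
      congr 1
      exact Fintype.sum_equiv (Equiv.mulLeft (⟨s, hs⟩ : S₀)) _ _ (fun a => by rw [← u_mul]; rfl)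
    · rw [he₁, smul_mul_assoc, Finset.sum_mul]
      congr 1
      exact Fintype.sum_equiv (Equiv.mulRight (⟨s, hs⟩ : S₀)) _ _ (fun a => by rw [← u_mul]; rfl)
  have he₁mem : e₁ ∈ alg S₀ := by
    rw [he₁]; exact Subalgebra.smul_mem _ (sum_mem fun s _ => u_mem_alg s.2) _
  have hscal : ∀ a ∈ alg S₀, ∃ c : K, a * e₁ = c • e₁ ∧ e₁ * a = c • e₁ := by
    intro a ha
    refine alg_induction (p := fun a => ∃ c : K, a * e₁ = c • e₁ ∧ e₁ * a = c • e₁) ha (fun s hs => ⟨1, ?_⟩)
      (fun a b ⟨c, hc⟩ ⟨d, hd⟩ => ⟨c + d, ?_⟩) (fun k a ⟨c, hc⟩ => ⟨k * c, ?_⟩)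
    · simp [hu₁ s hs]
    · simp [add_mul, mul_add, hc, hd, add_smul]
    · simp [hc, smul_smul]
  have hee : e₁ * e₁ = e₁ := by
    conv_lhs => arg 2; rw [he₁]
    rw [mul_smul_comm, Finset.mul_sum, Finset.sum_congr rfl (fun (s : S₀) _ => (hu₁ s s.2).2), Finset.sum_const,
      Finset.card_univ, ← Nat.cast_smul_eq_nsmul K, smul_smul, ← Nat.card_eq_fintype_card, inv_mul_cancel₀ hS₀K,
      one_smul]
  have hne₁ : e₁ ≠ 0 := by
    intro h
    have h1 : e₁.coeff 1 = 0 := by rw [h]; rfl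
    rw [he₁, MonoidAlgebra.coeff_smul, Finsupp.smul_apply, MonoidAlgebra.coeff_sum, Finsupp.finset_sum_apply,
      Finset.sum_eq_single (1 : S₀)] at h1
    · rw [show (u ((1 : S₀) : P) : MonoidAlgebra K P).coeff 1 = 1 by simp [u], smul_eq_mul, mul_one] at h1
      exact inv_ne_zero hS₀K h1
    · intro b _ hb
      show (MonoidAlgebra.single (b : P) (1 : K)).coeff 1 = 0
      rw [MonoidAlgebra.coeff_single, Finsupp.single_eq_of_ne]
      exact fun h => hb (Subtype.ext h.symm)
    · simp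
  have hblk₁ : Blk S₀ e₁ := ⟨he₁mem, hne₁, hee, fun a ha => by
      obtain ⟨c, h1, h2⟩ := hscal a ha; rw [h1, h2], fun a ha _ => by
      obtain ⟨c, h1, -⟩ := hscal a ha; exact ⟨c, h1⟩⟩
  have hfix₁ : ∀ g : P, cj g e₁ = e₁ := by
    intro g
    rw [he₁, map_smul, map_sum]
    congr 1
    refine Fintype.sum_equiv (((MulAut.conjNormal (H := S₀)) g).toEquiv) _ _ (fun s => ?_)
    rw [cj_u]
    exact congrArg u (MulAut.conjNormal_apply g s).symm
  have he₁F : e₁ ∉ F := by
    intro h
    obtain ⟨g, hg⟩ := (Set.finite_range orb).mem_toFinset.1 (Finset.mem_filter.1 h).1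
    have he' : e₀ = e₁ := by
      have h' := congrArg (cj (g : P)⁻¹) hg
      simpa [orb, cj_inv_cj, hfix₁] using h'
    have htop : I₀ = ⊤ := (Subgroup.eq_top_iff' _).2 fun k => by rw [hI₀, mem_stab, he']; exact hfix₁ k
    have h1 : (T.subgroupOf I₀).index = T.index := by
      show T.relIndex I₀ = _
      rw [htop, Subgroup.relIndex_top_right]
    omega
  -- twisting elements
  set F' := insert e₁ F with hF'
  have hF'blk : ∀ c ∈ F', Blk S₀ c ∧ cj x c = c := by
    intro c hc
    rcases Finset.mem_insert.1 hc with rfl | hc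
    · exact ⟨hblk₁, hfix₁ x⟩
    · obtain ⟨g, hg⟩ := (Set.finite_range orb).mem_toFinset.1 (Finset.mem_filter.1 hc).1
      exact ⟨hg ▸ he₀.cj (hnS₀ g) (hnS₀' g), (Finset.mem_filter.1 hc).2⟩
  have htw : ∀ c : F', ∃ b ∈ alg S₀, b ≠ 0 ∧ b * (c : MonoidAlgebra K P) = b ∧
      ∀ a ∈ alg S₀, cj x⁻¹ a * b = b * a := by
    intro c
    obtain ⟨hb, hfix⟩ := hF'blk c c.2
    obtain ⟨b, h1, h2, h3, -, h5⟩ := hb.exists_intertwiner hK (g := x⁻¹) (hnS₀ x⁻¹) (by
      conv_lhs => rw [← hfix]
      rw [cj_inv_cj])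
    exact ⟨b, h1, h2, h3, h5⟩
  choose b hbS hb0 hbc hbtw using htw
  letI act : MulAction S₀ (Tw S₀) :=
    { smul := fun s w => (⟨x⁻¹ * s * x * w.val * (s : P)⁻¹,
        S₀.mul_mem (S₀.mul_mem (hnS₀' x s s.2) (w : ↥S₀).2) (S₀.inv_mem s.2)⟩ : ↥S₀)
      one_smul := fun w => Subtype.ext (by show x⁻¹ * ((1 : S₀) : P) * x * w.val * ((1 : S₀) : P)⁻¹ = w.val; simp)
      mul_smul := fun s t w => Subtype.ext (by
        show x⁻¹ * ((s : P) * t) * x * w.val * ((s : P) * t)⁻¹ =
          x⁻¹ * s * x * (x⁻¹ * t * x * w.val * (t : P)⁻¹) * (s : P)⁻¹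
        group) }
  let Q := MulAction.orbitRel.Quotient S₀ (Tw S₀)
  haveI : Fintype Q := Fintype.ofFinite Q
  have hsmul : ∀ (s : S₀) (w : Tw S₀), (s • w).val = x⁻¹ * s * x * w.val * (s : P)⁻¹ := fun s w => rfl
  let Λ : (F' → K) →ₗ[K] (Q → K) :=
    { toFun := fun k o => (∑ c : F', k c • b c).coeff (Quotient.out o : Tw S₀).val
      map_add' := fun k k' => funext fun o => by
        simp [add_smul, Finset.sum_add_distrib, MonoidAlgebra.coeff_add]
      map_smul' := fun a k => funext fun o => by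
        simp [← smul_smul, ← Finset.smul_sum, MonoidAlgebra.coeff_smul] }
  have hΛ : Function.Injective Λ := by
    refine (injective_iff_map_eq_zero Λ).2 fun k hk => ?_
    set z := ∑ c : F', k c • b c with hz
    have hzS : z ∈ alg S₀ := sum_mem fun c _ => Subalgebra.smul_mem _ (hbS c) _
    have hzinv : ∀ s : S₀, u (x⁻¹ * s * x) * z * u (s : P)⁻¹ = z := by
      intro s
      rw [hz, Finset.mul_sum, Finset.sum_mul]
      refine Finset.sum_congr rfl fun c _ => ?_
      have h := hbtw c (u (s : P)) (u_mem_alg s.2)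
      rw [cj_u, inv_inv] at h
      rw [mul_smul_comm, smul_mul_assoc, h, mul_assoc, u_mul_inv, mul_one]
    have hz0 : z = 0 := by
      refine MonoidAlgebra.ext (Finsupp.ext fun w => ?_)
      show z.coeff w = 0
      by_cases hw : w ∈ S₀
      · set o : Q := Quotient.mk'' ((⟨w, hw⟩ : ↥S₀) : Tw S₀)
        obtain ⟨s, hs⟩ : ∃ s : S₀, s • (Quotient.out o : Tw S₀) = ((⟨w, hw⟩ : ↥S₀) : Tw S₀) := by
          have h : ((⟨w, hw⟩ : ↥S₀) : Tw S₀) ∈ MulAction.orbit S₀ (Quotient.out o : Tw S₀) :=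
            MulAction.orbitRel_apply.1 (Quotient.exact (Quotient.out_eq o).symm)
          exact h
        have h := congrArg Tw.val hs
        rw [hsmul] at h
        rw [← hzinv s, ← show x⁻¹ * s * x * (Quotient.out o : Tw S₀).val * (s : P)⁻¹ = w from h, coeff_u_mul_u]
        exact congrFun hk o
      · exact coeff_eq_zero_of_not_mem hzS w hw
    funext c
    have h := congrArg (· * (c : MonoidAlgebra K P)) hz0
    simp only [hz, zero_mul, Finset.sum_mul, smul_mul_assoc] at h
    rw [Finset.sum_eq_single c (fun d _ hdc => by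
      rw [← hbc d, mul_assoc, (hF'blk _ d.2).1.mul_eq_zero (hF'blk _ c.2).1 fun h => hdc (Subtype.ext h),
        mul_zero, smul_zero]) (by simp), hbc c] at h
    exact (smul_eq_zero.1 h).resolve_right (hb0 c)
  have hlow : F.card + 1 ≤ Fintype.card Q := by
    have h := LinearMap.finrank_le_finrank_of_injective hΛ
    rwa [Module.finrank_fintype_fun_eq_card, Module.finrank_fintype_fun_eq_card, Fintype.card_coe, hF',
      Finset.card_insert_of_notMem he₁F] at h
  obtain ⟨w, hw⟩ : ∃ w : Tw S₀, F.card < Nat.card (MulAction.stabilizer S₀ w) := by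
    by_contra h
    push Not at h
    have hsum : Nat.card (Tw S₀) = ∑ o : Q, Nat.card (MulAction.orbitRel.Quotient.orbit o) := by
      rw [Nat.card_congr (MulAction.selfEquivSigmaOrbits' S₀ (Tw S₀)), Nat.card_sigma]
    have hge : ∀ o : Q, Nat.card S₀ ≤ Nat.card (MulAction.orbitRel.Quotient.orbit o) * F.card := by
      intro o
      rw [MulAction.orbitRel.Quotient.orbit_eq_orbit_out o Quotient.out_eq']
      rw [Nat.card_coe_set_eq, ← MulAction.index_stabilizer]
      calc Nat.card S₀ = (MulAction.stabilizer S₀ (Quotient.out o : Tw S₀)).index *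
            Nat.card (MulAction.stabilizer S₀ (Quotient.out o : Tw S₀)) := by
            rw [mul_comm, Subgroup.card_mul_index]
        _ ≤ _ := Nat.mul_le_mul_left _ (h _)
    have h1 : Fintype.card Q * Nat.card S₀ ≤ Nat.card S₀ * F.card := by
      conv_rhs => rw [show Nat.card S₀ = Nat.card (Tw S₀) from rfl, hsum, Finset.sum_mul]
      calc Fintype.card Q * Nat.card S₀ = ∑ _o : Q, Nat.card S₀ := by simp
        _ ≤ _ := Finset.sum_le_sum fun o _ => hge o
    have : Fintype.card Q ≤ F.card := Nat.le_of_mul_le_mul_right (by rwa [mul_comm (Nat.card S₀)] at h1) Nat.card_pos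
    omega
  -- too large a centraliser
  have hxw : x * w.val ∉ T := fun h => hxT (by
    have hw2 : w.val ∈ T := hS₀T (w : ↥S₀).2
    have := T.mul_mem h (T.inv_mem hw2); rwa [mul_inv_cancel_right] at this)
  let emb : MulAction.stabilizer S₀ w → Subgroup.centralizer ({x * w.val} : Set P) := fun s => ⟨((s : S₀) : P), by
    have h := congrArg Tw.val (MulAction.mem_stabilizer_iff.1 s.2)
    rw [hsmul] at h
    rw [Subgroup.mem_centralizer_singleton_iff]
    calc ((s : S₀) : P) * (x * w.val) = x * (x⁻¹ * (s : S₀) * x * w.val * ((s : S₀) : P)⁻¹) * (s : S₀) := by group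
      _ = _ := by rw [h]⟩
  have hlt' : Nat.card (MulAction.stabilizer S₀ w) < Nat.card (Subgroup.centralizer ({x * w.val} : Set P)) := by
    have h2 : Function.Injective emb := fun a b hab => by
      have hab' : ((a : S₀) : P) = ((b : S₀) : P) := by simpa [emb] using congrArg Subtype.val hab
      exact Subtype.ext (Subtype.ext hab')
    refine lt_of_le_of_ne (Nat.card_le_card_of_injective emb h2) fun h => ?_
    obtain ⟨a, ha⟩ := (h2.bijective_of_nat_card_le h.ge).2
      ⟨x * w.val, Subgroup.mem_centralizer_singleton_iff.2 rfl⟩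
    have ha' : ((a : S₀) : P) = x * w.val := by simpa [emb] using congrArg Subtype.val ha
    exact hxw (ha' ▸ hS₀T (a : S₀).2)
  have hCeq : Nat.card (Subgroup.centralizer ({x * w.val} : Set P)) =
      Nat.card (Subgroup.centralizer ({x} : Set P)) := by
    rw [Camina.card_centralizer hcam hxw, Camina.card_centralizer hcam hxT,
      show ((x * w.val : P) : P ⧸ T) = (x : P ⧸ T) by
        rw [QuotientGroup.mk_mul, (QuotientGroup.eq_one_iff w.val).2 (hS₀T (w : ↥S₀).2), mul_one]]
  obtain ⟨i, hi⟩ := IsPGroup.iff_card.1 (hP.to_subgroup (Subgroup.centralizer ({x} : Set P)))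
  obtain ⟨j, hj⟩ := IsPGroup.iff_card.1 ((hP.to_subgroup S₀).to_subgroup (MulAction.stabilizer S₀ w))
  have h3 : p * F.card < p * p ^ j := Nat.mul_lt_mul_of_pos_left (hj ▸ hw) hp.out.pos
  rw [hCF, hi, ← pow_succ'] at h3
  rw [hj, hCeq, hi] at hlt'
  have h4 := (Nat.pow_lt_pow_iff_right hp.out.one_lt).1 h3
  have h5 := (Nat.pow_lt_pow_iff_right hp.out.one_lt).1 hlt'
  omega

end Cfsg.Agent.Solv.CaminaFPF
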